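import Cfsg.Agent.Helper36.F4Mix.Defs
import Cfsg.Agent.Helper18.CoxFaithful
import Cfsg.Agent.Helper18.WeylHom
import Cfsg.Agent.Helper18.LongWord

/-!
Helper36, S2179, piece (WC): the two facts on the Weyl group of `F₄` (1152 elements), for words in the
fundamental reflections acting on the 48 roots through `rho chevF4`.
(WC1) `w(47), w(44) ∈ {44, 47}` forces `w ∈ ⟨s_{p₂}, s_{p₃}⟩`; (WC2) `w(39), w(45) ∈ {39,40,44,45,46,47}`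
forces `w ∈ ⟨s_{p₁}, s_{p₄}⟩`.
Route: a coset enumeration.  A transversal `tws` of words for the cosets of the stabilizer of the pair
(one word for each pair of the orbit), and the table `nxt`: `s_i t_k = t_{k'} c_j` on all 48 roots, `c_j`
the `j`-th word of the stabilizer.  By induction every word acts like some `t_k c`.
-/

set_option autoImplicit false
set_option maxRecDepth 100000

namespace Cfsg.Agent.Helper36.F4Mix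

open Cfsg Cfsg.Lie Cfsg.Agent.Helper18 Cfsg.Agent.Helper19.Cox

local notation "hF4" => Cfsg.Agent.Helper36.SigmaF4.hF4

/-- the action of a word on a root index, from the packed tables -/
abbrev aW (w : List ℕ) (x : ℕ) : ℕ := actW reflTabsF4 4 48 w x

theorem aW_eq_rho (w : List ℕ) (hw : ∀ i ∈ w, i < 4) (x : ℕ) (hx : x < 48) :
    aW w x = rho chevF4 w x ∧ rho chevF4 w x < 48 :=
  actW_eq_rho chevF4 reflTabsF4 tabsOK_F4 w hw x hx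

theorem aW_lt (w : List ℕ) (hw : ∀ i ∈ w, i < 4) (x : ℕ) (hx : x < 48) : aW w x < 48 := by
  obtain ⟨e, h⟩ := aW_eq_rho w hw x hx
  rw [e]; exact h

/-- the step table is right -/
def stepOK (tws : List (List ℕ)) (nxt : List (List (ℕ × ℕ))) (Ls : List (List ℕ)) : Bool :=
  (List.range tws.length).all fun k => (List.range 4).all fun i =>
    decide (((nxt.getD k []).getD i (0, 0)).1 < tws.length) &&
    decide (((nxt.getD k []).getD i (0, 0)).2 < Ls.length) &&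
    (List.range 48).all fun x =>
      aW (i :: tws.getD k []) x ==
        aW (tws.getD ((nxt.getD k []).getD i (0, 0)).1 [] ++ Ls.getD ((nxt.getD k []).getD i (0, 0)).2 []) x

/-- the stabilizer words are closed under products -/
def closedOK (Ls : List (List ℕ)) : Bool :=
  Ls.all fun a => Ls.all fun b => Ls.any fun c => (List.range 48).all fun x => aW (a ++ b) x == aW c x

/-- all the letters are `< 4` -/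
def lettersOK (ws : List (List ℕ)) : Bool := ws.all fun w => w.all fun i => decide (i < 4)

theorem lettersOK_spec {ws : List (List ℕ)} (h : lettersOK ws = true) : ∀ w ∈ ws, ∀ i ∈ w, i < 4 := by
  intro w hw i hi
  unfold lettersOK at h
  rw [List.all_eq_true] at h
  have := h w hw
  rw [List.all_eq_true] at this
  exact decide_eq_true_eq.mp (this i hi)

theorem getD_mem_or {α : Type*} (l : List α) (k : ℕ) (hk : k < l.length) (d : α) : l.getD k d ∈ l := by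
  rw [List.getD_eq_getElem _ _ hk]
  exact List.getElem_mem hk

/-- the coset enumeration: every word acts like `t_k c` -/
theorem coset_enum (tws : List (List ℕ)) (nxt : List (List (ℕ × ℕ))) (Ls : List (List ℕ))
    (h0 : 0 < tws.length) (ht0 : tws.getD 0 [] = []) (hnil : [] ∈ Ls)
    (hlt : lettersOK tws = true) (hlL : lettersOK Ls = true)
    (hstep : stepOK tws nxt Ls = true) (hcl : closedOK Ls = true)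
    (word : List ℕ) (hw : ∀ i ∈ word, i < 4) :
    ∃ k < tws.length, ∃ c ∈ Ls, ∀ x < 48, aW word x = aW (tws.getD k [] ++ c) x := by
  induction word with
  | nil =>
    refine ⟨0, h0, [], hnil, fun x _ => ?_⟩
    rw [ht0]
    rfl
  | cons i w ih =>
    obtain ⟨k, hk, c, hc, h⟩ := ih (fun j hj => hw j (List.mem_cons_of_mem _ hj))
    have hi : i < 4 := hw i List.mem_cons_self
    unfold stepOK at hstep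
    rw [List.all_eq_true] at hstep
    have h1 := hstep k (List.mem_range.mpr hk)
    rw [List.all_eq_true] at h1
    have h2 := h1 i (List.mem_range.mpr hi)
    simp only [Bool.and_eq_true, decide_eq_true_eq, List.all_eq_true, List.mem_range, beq_iff_eq] at h2
    obtain ⟨⟨hk', hj'⟩, h3⟩ := h2
    set k' := ((nxt.getD k []).getD i (0, 0)).1 with hk'def
    set j' := ((nxt.getD k []).getD i (0, 0)).2 with hj'def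
    have hc'mem : Ls.getD j' [] ∈ Ls := getD_mem_or Ls j' hj' []
    -- closure of the stabilizer words
    unfold closedOK at hcl
    rw [List.all_eq_true] at hcl
    have h4 := hcl _ hc'mem
    rw [List.all_eq_true] at h4
    have h5 := h4 c hc
    rw [List.any_eq_true] at h5
    obtain ⟨c'', hc'', h6⟩ := h5
    simp only [List.all_eq_true, List.mem_range, beq_iff_eq] at h6
    have hcl4 : ∀ i ∈ c, i < 4 := lettersOK_spec hlL c hc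
    refine ⟨k', hk', c'', hc'', fun x hx => ?_⟩
    have e1 : aW (i :: w) x = aW [i] (aW w x) := rfl
    have hcx : aW c x < 48 := aW_lt c hcl4 x hx
    calc aW (i :: w) x = aW [i] (aW w x) := e1
      _ = aW [i] (aW (tws.getD k [] ++ c) x) := by rw [h x hx]
      _ = aW (i :: tws.getD k []) (aW c x) := by
          show aW [i] _ = _
          rw [show aW (tws.getD k [] ++ c) x = aW (tws.getD k []) (aW c x) from actW_append _ _ _ _ _ _]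
          rfl
      _ = aW (tws.getD k' [] ++ Ls.getD j' []) (aW c x) := h3 _ hcx
      _ = aW (tws.getD k' []) (aW (Ls.getD j' [] ++ c) x) := by
          rw [show aW (tws.getD k' [] ++ Ls.getD j' []) (aW c x) =
            aW (tws.getD k' []) (aW (Ls.getD j' []) (aW c x)) from actW_append _ _ _ _ _ _]
          rw [show aW (Ls.getD j' [] ++ c) x = aW (Ls.getD j' []) (aW c x) from actW_append _ _ _ _ _ _]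
      _ = aW (tws.getD k' []) (aW c'' x) := by rw [h6 x hx]
      _ = aW (tws.getD k' [] ++ c'') x := (actW_append _ _ _ _ _ _).symm

/-- the final step: the pair is fixed by the stabilizer words, and only the trivial coset has its pair
in `A × A` -/
def finalOK (tws : List (List ℕ)) (Ls : List (List ℕ)) (a b : ℕ) (A : List ℕ) : Bool :=
  (Ls.all fun c => (aW c a == a) && (aW c b == b)) &&
  (tws.all fun t => (t == []) || !(A.contains (aW t a) && A.contains (aW t b)))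

theorem weyl_class_gen (tws : List (List ℕ)) (nxt : List (List (ℕ × ℕ))) (Ls : List (List ℕ))
    (a b : ℕ) (A : List ℕ) (ha : a < 48) (hb : b < 48)
    (h0 : 0 < tws.length) (ht0 : tws.getD 0 [] = []) (hnil : [] ∈ Ls)
    (hlt : lettersOK tws = true) (hlL : lettersOK Ls = true)
    (hstep : stepOK tws nxt Ls = true) (hcl : closedOK Ls = true) (hfin : finalOK tws Ls a b A = true)
    (word : List ℕ) (hw : ∀ i ∈ word, i < 4)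
    (h1 : rho chevF4 word a ∈ A) (h2 : rho chevF4 word b ∈ A) :
    ∃ c ∈ Ls, ∀ r < 48, rho chevF4 word r = rho chevF4 c r := by
  obtain ⟨k, hk, c, hc, h⟩ := coset_enum tws nxt Ls h0 ht0 hnil hlt hlL hstep hcl word hw
  have hcl4 : ∀ i ∈ c, i < 4 := lettersOK_spec hlL c hc
  have htmem : tws.getD k [] ∈ tws := getD_mem_or tws k hk []
  have htl4 : ∀ i ∈ tws.getD k [], i < 4 := lettersOK_spec hlt _ htmem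
  unfold finalOK at hfin
  rw [Bool.and_eq_true, List.all_eq_true, List.all_eq_true] at hfin
  obtain ⟨hf1, hf2⟩ := hfin
  have hfc := hf1 c hc
  rw [Bool.and_eq_true, beq_iff_eq, beq_iff_eq] at hfc
  have hft := hf2 _ htmem
  have ea : aW (tws.getD k []) a = rho chevF4 word a := by
    rw [← (aW_eq_rho word hw a ha).1, h a ha,
      show aW (tws.getD k [] ++ c) a = aW (tws.getD k []) (aW c a) from actW_append _ _ _ _ _ _, hfc.1]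
  have eb : aW (tws.getD k []) b = rho chevF4 word b := by
    rw [← (aW_eq_rho word hw b hb).1, h b hb,
      show aW (tws.getD k [] ++ c) b = aW (tws.getD k []) (aW c b) from actW_append _ _ _ _ _ _, hfc.2]
  have htnil : tws.getD k [] = [] := by
    rw [Bool.or_eq_true, beq_iff_eq] at hft
    rcases hft with hft | hft
    · exact hft
    · exfalso
      rw [Bool.not_eq_true', Bool.and_eq_false_iff, ea, eb] at hft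
      rcases hft with hft | hft
      · rw [← Bool.not_eq_true, List.contains_iff_mem] at hft
        exact hft h1
      · rw [← Bool.not_eq_true, List.contains_iff_mem] at hft
        exact hft h2
  refine ⟨c, hc, fun r hr => ?_⟩
  rw [← (aW_eq_rho word hw r hr).1, ← (aW_eq_rho c hcl4 r hr).1, h r hr, htnil]
  rfl

/-! ### the data -/

def tws1 : List (List ℕ) := [[], [0], [3], [1, 0], [3, 0], [2, 3], [2, 1, 0], [3, 1, 0], [2, 3, 0], [1, 2, 3], [1, 2, 1, 0], [3, 2, 1, 0], [2, 3, 1, 0], [1, 2, 3, 0], [0, 1, 2, 3], [2, 1, 2, 3], [0, 1, 2, 1, 0], [3, 1, 2, 1, 0], [2, 3, 2, 1, 0], [1, 2, 3, 1, 0], [0, 1, 2, 3, 0], [2, 1, 2, 3, 0], [2, 0, 1, 2, 3], [3, 2, 1, 2, 3], [3, 0, 1, 2, 1, 0], [2, 3, 1, 2, 1, 0], [1, 2, 3, 2, 1, 0], [0, 1, 2, 3, 1, 0], [2, 1, 2, 3, 1, 0], [2, 0, 1, 2, 3, 0], [3, 2, 1, 2, 3, 0], [1,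 2, 0, 1, 2, 3], [3, 2, 0, 1, 2, 3], [2, 3, 0, 1, 2, 1, 0], [1, 2, 3, 1, 2, 1, 0], [0, 1, 2, 3, 2, 1, 0], [2, 1, 2, 3, 2, 1, 0], [2, 0, 1, 2, 3, 1, 0], [3, 2, 1, 2, 3, 1, 0], [1, 2, 0, 1, 2, 3, 0], [3, 2, 0, 1, 2, 3, 0], [2, 1, 2, 0, 1, 2, 3], [3, 1, 2, 0, 1, 2, 3], [1, 2, 3, 0, 1, 2, 1, 0], [0, 1, 2, 3, 1, 2, 1, 0], [2, 1, 2, 3, 1, 2, 1, 0], [2, 0, 1, 2, 3, 2, 1, 0], [3, 2, 1, 2, 3, 2, 1, 0], [1, 2, 0, 1, 2, 3, 1, 0], [3, 2, 0, 1, 2, 3, 1, 0], [2, 1, 2, 0, 1, 2, 3, 0], [3, 1, 2, 0, 1, 2, 3, 0], [3, 2, 1, 2, 0, 1, 2, 3], [2, 3, 1, 2, 0, 1, 2, 3], [0, 1, 2, 3, 0, 1, 2, 1, 0], [2, 1, 2, 3, 0, 1, 2, 1, 0], [2, 0, 1, 2, 3, 1, 2, 1, 0], [3, 2, 1, 2, 3, 1, 2, 1, 0], [1, 2, 0, 1, 2, 3, 2, 1, 0], [3, 2, 0, 1, 2, 3, 2, 1, 0], [2, 1, 2, 0, 1, 2, 3, 1, 0], [3, 1, 2, 0, 1, 2, 3, 1, 0], [3, 2, 1, 2, 0, 1, 2, 3, 0],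 [2, 3, 1, 2, 0, 1, 2, 3, 0], [2, 3, 2, 1, 2, 0, 1, 2, 3], [1, 2, 3, 1, 2, 0, 1, 2, 3], [2, 0, 1, 2, 3, 0, 1, 2, 1, 0], [3, 2, 1, 2, 3, 0, 1, 2, 1, 0], [1, 2, 0, 1, 2, 3, 1, 2, 1, 0], [3, 2, 0, 1, 2, 3, 1, 2, 1, 0], [2, 1, 2, 0, 1, 2, 3, 2, 1, 0], [3, 1, 2, 0, 1, 2, 3, 2, 1, 0], [3, 2, 1, 2, 0, 1, 2, 3, 1, 0], [2, 3, 1, 2, 0, 1, 2, 3, 1, 0], [2, 3, 2, 1, 2, 0, 1, 2, 3, 0], [1, 2, 3, 1, 2, 0, 1, 2, 3, 0], [1, 2, 3, 2, 1, 2, 0, 1, 2, 3], [0, 1, 2, 3, 1, 2, 0, 1, 2, 3], [1, 2, 0, 1, 2, 3, 0, 1, 2, 1, 0], [3, 2, 0, 1, 2, 3, 0, 1, 2, 1, 0], [2, 1, 2, 0, 1, 2, 3, 1, 2, 1, 0], [3, 1, 2, 0, 1, 2, 3, 1, 2, 1, 0], [3, 2, 1, 2, 0, 1, 2, 3, 2, 1, 0], [2, 3, 1, 2, 0, 1, 2, 3, 2, 1, 0], [2, 3, 2, 1, 2, 0, 1, 2, 3, 1, 0], [1, 2, 3, 1, 2, 0, 1, 2, 3, 1, 0], [1, 2, 3, 2, 1, 2, 0, 1, 2, 3, 0], [0, 1, 2, 3, 1, 2, 0, 1,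 2, 3, 0], [0, 1, 2, 3, 2, 1, 2, 0, 1, 2, 3], [2, 1, 2, 3, 2, 1, 2, 0, 1, 2, 3], [2, 1, 2, 0, 1, 2, 3, 0, 1, 2, 1, 0], [3, 1, 2, 0, 1, 2, 3, 0, 1, 2, 1, 0], [3, 2, 1, 2, 0, 1, 2, 3, 1, 2, 1, 0], [2, 3, 1, 2, 0, 1, 2, 3, 1, 2, 1, 0], [2, 3, 2, 1, 2, 0, 1, 2, 3, 2, 1, 0], [1, 2, 3, 1, 2, 0, 1, 2, 3, 2, 1, 0], [1, 2, 3, 2, 1, 2, 0, 1, 2, 3, 1, 0], [0, 1, 2, 3, 1, 2, 0, 1, 2, 3, 1, 0], [0, 1, 2, 3, 2, 1, 2, 0, 1, 2, 3, 0], [2, 1, 2, 3, 2, 1, 2, 0, 1, 2, 3, 0], [2, 0, 1, 2, 3, 2, 1, 2, 0, 1, 2, 3], [3, 2, 1, 2, 0, 1, 2, 3, 0, 1, 2, 1, 0], [2, 3, 1, 2, 0, 1, 2, 3, 0, 1, 2, 1, 0], [2, 3, 2, 1, 2, 0, 1, 2, 3, 1, 2, 1, 0], [1, 2, 3, 1, 2, 0, 1, 2, 3, 1, 2, 1, 0], [1, 2, 3, 2, 1, 2, 0, 1, 2, 3, 2, 1, 0], [0, 1, 2, 3, 1, 2, 0, 1, 2, 3, 2, 1, 0], [0, 1, 2, 3, 2, 1, 2, 0, 1, 2, 3, 1, 0], [2, 1, 2, 3, 2, 1, 2, 0, 1,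 2, 3, 1, 0], [2, 0, 1, 2, 3, 2, 1, 2, 0, 1, 2, 3, 0], [1, 2, 0, 1, 2, 3, 2, 1, 2, 0, 1, 2, 3], [2, 3, 2, 1, 2, 0, 1, 2, 3, 0, 1, 2, 1, 0], [1, 2, 3, 1, 2, 0, 1, 2, 3, 0, 1, 2, 1, 0], [1, 2, 3, 2, 1, 2, 0, 1, 2, 3, 1, 2, 1, 0], [0, 1, 2, 3, 1, 2, 0, 1, 2, 3, 1, 2, 1, 0], [0, 1, 2, 3, 2, 1, 2, 0, 1, 2, 3, 2, 1, 0], [2, 1, 2, 3, 2, 1, 2, 0, 1, 2, 3, 2, 1, 0], [2, 0, 1, 2, 3, 2, 1, 2, 0, 1, 2, 3, 1, 0], [1, 2, 0, 1, 2, 3, 2, 1, 2, 0, 1, 2, 3, 0], [2, 1, 2, 0, 1, 2, 3, 2, 1, 2, 0, 1, 2, 3], [1, 2, 3, 2, 1, 2, 0, 1, 2, 3, 0, 1, 2, 1, 0], [0, 1, 2, 3, 1, 2, 0, 1, 2, 3, 0, 1, 2, 1, 0], [0, 1, 2, 3, 2, 1, 2, 0, 1, 2, 3, 1, 2, 1, 0], [2, 1, 2, 3, 2, 1, 2, 0, 1, 2, 3, 1, 2, 1, 0], [2, 0, 1, 2, 3, 2, 1, 2, 0, 1, 2, 3, 2, 1, 0], [1, 2, 0, 1, 2, 3, 2, 1, 2, 0, 1, 2, 3, 1, 0], [2, 1, 2, 0, 1, 2, 3, 2, 1, 2, 0, 1, 2,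 3, 0], [3, 2, 1, 2, 0, 1, 2, 3, 2, 1, 2, 0, 1, 2, 3], [0, 1, 2, 3, 2, 1, 2, 0, 1, 2, 3, 0, 1, 2, 1, 0], [2, 1, 2, 3, 2, 1, 2, 0, 1, 2, 3, 0, 1, 2, 1, 0], [2, 0, 1, 2, 3, 2, 1, 2, 0, 1, 2, 3, 1, 2, 1, 0], [1, 2, 0, 1, 2, 3, 2, 1, 2, 0, 1, 2, 3, 2, 1, 0], [2, 1, 2, 0, 1, 2, 3, 2, 1, 2, 0, 1, 2, 3, 1, 0], [3, 2, 1, 2, 0, 1, 2, 3, 2, 1, 2, 0, 1, 2, 3, 0], [2, 0, 1, 2, 3, 2, 1, 2, 0, 1, 2, 3, 0, 1, 2, 1, 0], [1, 2, 0, 1, 2, 3, 2, 1, 2, 0, 1, 2, 3, 1, 2, 1, 0], [2, 1, 2, 0, 1, 2, 3, 2, 1, 2, 0, 1, 2, 3, 2, 1, 0], [3, 2, 1, 2, 0, 1, 2, 3, 2, 1, 2, 0, 1, 2, 3, 1, 0], [1, 2, 0, 1, 2, 3, 2, 1, 2, 0, 1, 2, 3, 0, 1, 2, 1, 0], [2, 1, 2, 0, 1, 2, 3, 2, 1, 2, 0, 1, 2, 3, 1, 2, 1, 0], [3, 2, 1, 2, 0, 1, 2, 3, 2, 1, 2, 0, 1, 2, 3, 2, 1, 0], [2, 1, 2, 0, 1, 2, 3, 2, 1, 2, 0, 1, 2, 3, 0, 1, 2, 1, 0], [3, 2, 1, 2, 0, 1,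 2, 3, 2, 1, 2, 0, 1, 2, 3, 1, 2, 1, 0], [3, 2, 1, 2, 0, 1, 2, 3, 2, 1, 2, 0, 1, 2, 3, 0, 1, 2, 1, 0]]

def nxt1 : List (List (ℕ × ℕ)) := [[(1, 0), (0, 1), (0, 2), (2, 0)], [(0, 0), (3, 0), (1, 2), (4, 0)], [(4, 0), (2, 1), (5, 0), (0, 0)], [(3, 1), (1, 0), (6, 0), (7, 0)], [(2, 0), (7, 0), (8, 0), (1, 0)], [(8, 0), (9, 0), (2, 0), (5, 2)], [(6, 1), (10, 0), (3, 0), (11, 0)], [(7, 1), (4, 0), (12, 0), (3, 0)], [(5, 0), (13, 0), (4, 0), (8, 2)], [(14, 0), (5, 0), (15, 0), (9, 2)], [(16, 0), (6, 0), (10, 2), (17, 0)], [(11, 1), (17, 0), (18, 0), (6, 0)], [(12, 1), (19, 0), (7, 0), (18, 0)], [(20, 0), (8, 0), (21, 0), (13, 2)], [(9, 0), (20, 0), (22, 0), (14, 2)], [(22, 0), (15, 1), (9, 0), (23, 0)], [(10, 0), (16, 1), (16, 2), (24, 0)], [(24, 0), (11, 0), (25, 0), (10, 0)], [(18, 1), (26, 0), (11, 0), (12,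 0)], [(27, 0), (12, 0), (28, 0), (26, 0)], [(13, 0), (14, 0), (29, 0), (20, 2)], [(29, 0), (28, 0), (13, 0), (30, 0)], [(15, 0), (31, 0), (14, 0), (32, 0)], [(32, 0), (23, 1), (23, 2), (15, 0)], [(17, 0), (24, 1), (33, 0), (16, 0)], [(33, 0), (34, 0), (17, 0), (25, 2)], [(35, 0), (18, 0), (36, 0), (19, 0)], [(19, 0), (27, 1), (37, 0), (35, 0)], [(37, 0), (21, 0), (19, 0), (38, 0)], [(21, 0), (39, 0), (20, 0), (40, 0)], [(40, 0), (38, 0), (30, 2), (21, 0)], [(31, 1), (22, 0), (41, 0), (42, 0)], [(23, 0), (42, 0), (32, 2), (22, 0)], [(25, 0), (43, 0), (24, 0), (33, 2)], [(44, 0), (25, 0), (45, 0), (34, 2)], [(26, 0), (35, 1), (46, 0), (27, 0)], [(46, 0), (45, 0), (26, 0), (47, 0)], [(28, 0), (48, 0), (27, 0), (49, 0)], [(49, 0), (30, 0), (47, 0), (28, 0)], [(48, 0), (29, 0), (50, 0), (51, 0)], [(30, 0),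 (51, 0), (40, 2), (29, 0)], [(41, 1), (50, 0), (31, 0), (52, 0)], [(42, 1), (32, 0), (53, 0), (31, 0)], [(54, 0), (33, 0), (55, 0), (43, 2)], [(34, 0), (54, 0), (56, 0), (44, 2)], [(56, 0), (36, 0), (34, 0), (57, 0)], [(36, 0), (58, 0), (35, 0), (59, 0)], [(59, 0), (57, 0), (38, 0), (36, 0)], [(39, 0), (37, 0), (60, 0), (61, 0)], [(38, 0), (61, 0), (59, 0), (37, 0)], [(60, 0), (41, 0), (39, 0), (62, 0)], [(61, 0), (40, 0), (63, 0), (39, 0)], [(52, 1), (62, 0), (64, 0), (41, 0)], [(53, 1), (65, 0), (42, 0), (64, 0)], [(43, 0), (44, 0), (66, 0), (54, 2)], [(66, 0), (55, 1), (43, 0), (67, 0)], [(45, 0), (68, 0), (44, 0), (69, 0)], [(69, 0), (47, 0), (57, 2), (45, 0)], [(68, 0), (46, 0), (70, 0), (71, 0)], [(47, 0), (71, 0), (49, 0), (46, 0)], [(50, 0), (60, 1), (48, 0), (72, 0)], [(51, 0), (49, 0), (73,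 0), (48, 0)], [(72, 0), (52, 0), (74, 0), (50, 0)], [(73, 0), (75, 0), (51, 0), (74, 0)], [(64, 1), (76, 0), (52, 0), (53, 0)], [(77, 0), (53, 0), (65, 2), (76, 0)], [(55, 0), (78, 0), (54, 0), (79, 0)], [(79, 0), (67, 1), (67, 2), (55, 0)], [(58, 0), (56, 0), (80, 0), (81, 0)], [(57, 0), (81, 0), (69, 2), (56, 0)], [(80, 0), (70, 1), (58, 0), (82, 0)], [(81, 0), (59, 0), (83, 0), (58, 0)], [(62, 0), (72, 1), (84, 0), (60, 0)], [(63, 0), (85, 0), (61, 0), (84, 0)], [(84, 0), (86, 0), (62, 0), (63, 0)], [(87, 0), (63, 0), (75, 2), (86, 0)], [(88, 0), (64, 0), (89, 0), (65, 0)], [(65, 0), (77, 1), (77, 2), (88, 0)], [(78, 1), (66, 0), (90, 0), (91, 0)], [(67, 0), (91, 0), (79, 2), (66, 0)], [(70, 0), (90, 0), (68, 0), (92, 0)], [(71, 0), (69, 0), (93, 0), (68, 0)], [(92, 0), (82, 1), (94, 0), (70, 0)],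 [(93, 0), (95, 0), (71, 0), (94, 0)], [(74, 0), (96, 0), (72, 0), (73, 0)], [(97, 0), (73, 0), (95, 0), (96, 0)], [(98, 0), (74, 0), (99, 0), (75, 0)], [(75, 0), (97, 0), (87, 2), (98, 0)], [(76, 0), (88, 1), (100, 0), (77, 0)], [(100, 0), (99, 0), (76, 0), (89, 2)], [(90, 1), (80, 0), (78, 0), (101, 0)], [(91, 1), (79, 0), (102, 0), (78, 0)], [(82, 0), (101, 0), (103, 0), (80, 0)], [(83, 0), (104, 0), (81, 0), (103, 0)], [(103, 0), (105, 0), (82, 0), (83, 0)], [(106, 0), (83, 0), (85, 0), (105, 0)], [(107, 0), (84, 0), (108, 0), (85, 0)], [(85, 0), (87, 0), (106, 0), (107, 0)], [(86, 0), (107, 0), (109, 0), (87, 0)], [(109, 0), (89, 0), (86, 0), (99, 2)], [(89, 0), (110, 0), (88, 0), (100, 2)], [(101, 1), (92, 0), (111, 0), (90, 0)], [(102, 1), (112, 0), (91, 0), (111, 0)], [(94, 0), (113, 0), (92,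 0), (93, 0)], [(114, 0), (93, 0), (104, 2), (113, 0)], [(115, 0), (94, 0), (116, 0), (95, 0)], [(95, 0), (114, 0), (97, 0), (115, 0)], [(96, 0), (98, 0), (117, 0), (97, 0)], [(117, 0), (108, 1), (96, 0), (116, 0)], [(99, 0), (118, 0), (98, 0), (109, 2)], [(118, 0), (100, 0), (119, 0), (110, 2)], [(111, 1), (120, 0), (101, 0), (102, 0)], [(121, 0), (102, 0), (112, 2), (120, 0)], [(122, 0), (103, 0), (123, 0), (104, 0)], [(104, 0), (106, 0), (114, 2), (122, 0)], [(105, 0), (122, 0), (124, 0), (106, 0)], [(124, 0), (116, 1), (105, 0), (108, 0)], [(108, 0), (125, 0), (107, 0), (124, 0)], [(110, 0), (109, 0), (126, 0), (118, 2)], [(126, 0), (119, 1), (110, 0), (127, 0)], [(128, 0), (111, 0), (129, 0), (112, 0)], [(112, 0), (121, 1), (121, 2), (128, 0)], [(113, 0), (115, 0), (130, 0), (114, 0)], [(130, 0),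 (129, 0), (113, 0), (123, 2)], [(116, 0), (131, 0), (115, 0), (117, 0)], [(125, 1), (117, 0), (132, 0), (131, 0)], [(119, 0), (132, 0), (118, 0), (133, 0)], [(133, 0), (127, 1), (127, 2), (119, 0)], [(120, 0), (128, 1), (134, 0), (121, 0)], [(134, 0), (123, 0), (120, 0), (129, 2)], [(123, 0), (135, 0), (122, 0), (130, 2)], [(131, 1), (124, 0), (136, 0), (125, 0)], [(132, 1), (126, 0), (125, 0), (137, 0)], [(127, 0), (137, 0), (133, 2), (126, 0)], [(129, 0), (138, 0), (128, 0), (134, 2)], [(138, 0), (130, 0), (139, 0), (135, 2)], [(136, 1), (139, 0), (131, 0), (140, 0)], [(137, 1), (133, 0), (140, 0), (132, 0)], [(135, 0), (134, 0), (141, 0), (138, 2)], [(141, 0), (136, 0), (135, 0), (142, 0)], [(140, 1), (142, 0), (137, 0), (136, 0)], [(139, 0), (141, 1), (138, 0), (143, 0)], [(143, 0), (140, 0), (142,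 2), (139, 0)], [(142, 0), (143, 1), (143, 2), (141, 0)]]

def tws2 : List (List ℕ) := [[], [1], [2], [0, 1], [2, 1], [1, 2], [3, 2], [2, 0, 1], [1, 2, 1], [3, 2, 1], [0, 1, 2], [2, 1, 2], [3, 1, 2], [1, 2, 0, 1], [3, 2, 0, 1], [0, 1, 2, 1], [2, 1, 2, 1], [3, 1, 2, 1], [2, 0, 1, 2], [3, 0, 1, 2], [3, 2, 1, 2], [2, 3, 1, 2], [0, 1, 2, 0, 1], [2, 1, 2, 0, 1], [3, 1, 2, 0, 1], [2, 0, 1, 2, 1], [3, 0, 1, 2, 1], [3, 2, 1, 2, 1], [2, 3, 1, 2, 1], [1, 2, 0, 1, 2], [3, 2, 0, 1, 2], [2, 3, 0, 1, 2], [2, 3, 2, 1, 2], [1, 2, 3, 1, 2], [2, 0, 1, 2, 0, 1], [3, 0, 1, 2, 0, 1], [3, 2, 1, 2, 0, 1], [2, 3, 1, 2, 0, 1], [1, 2, 0, 1, 2, 1], [3, 2, 0, 1, 2, 1], [2, 3, 0, 1, 2, 1], [2, 3, 2, 1, 2, 1], [1, 2, 3, 1, 2, 1], [2, 1, 2, 0, 1, 2], [3, 1, 2, 0, 1, 2], [2, 3, 2, 0, 1, 2], [1, 2, 3, 0, 1, 2], [1, 2, 3, 2, 1, 2], [0,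 1, 2, 3, 1, 2], [1, 2, 0, 1, 2, 0, 1], [3, 2, 0, 1, 2, 0, 1], [2, 3, 0, 1, 2, 0, 1], [2, 3, 2, 1, 2, 0, 1], [1, 2, 3, 1, 2, 0, 1], [2, 1, 2, 0, 1, 2, 1], [3, 1, 2, 0, 1, 2, 1], [2, 3, 2, 0, 1, 2, 1], [1, 2, 3, 0, 1, 2, 1], [1, 2, 3, 2, 1, 2, 1], [0, 1, 2, 3, 1, 2, 1], [3, 2, 1, 2, 0, 1, 2], [2, 3, 1, 2, 0, 1, 2], [1, 2, 3, 2, 0, 1, 2], [0, 1, 2, 3, 0, 1, 2], [2, 1, 2, 3, 0, 1, 2], [0, 1, 2, 3, 2, 1, 2], [2, 1, 2, 3, 2, 1, 2], [2, 1, 2, 0, 1, 2, 0, 1], [3, 1, 2, 0, 1, 2, 0, 1], [2, 3, 2, 0, 1, 2, 0, 1], [1, 2, 3, 0, 1, 2, 0, 1], [1, 2, 3, 2, 1, 2, 0, 1], [0, 1, 2, 3, 1, 2, 0, 1], [3, 2, 1, 2, 0, 1, 2, 1], [2, 3, 1, 2, 0, 1, 2, 1], [1, 2, 3, 2, 0, 1, 2, 1], [0, 1, 2, 3, 0, 1, 2, 1], [2, 1, 2, 3, 0, 1, 2, 1], [0, 1, 2, 3, 2, 1, 2, 1], [2, 1, 2, 3, 2, 1, 2, 1], [2, 3, 2, 1, 2, 0, 1, 2], [1, 2, 3, 1, 2, 0,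 1, 2], [0, 1, 2, 3, 2, 0, 1, 2], [2, 1, 2, 3, 2, 0, 1, 2], [2, 0, 1, 2, 3, 0, 1, 2], [3, 2, 1, 2, 3, 0, 1, 2], [2, 0, 1, 2, 3, 2, 1, 2], [3, 2, 1, 2, 0, 1, 2, 0, 1], [2, 3, 1, 2, 0, 1, 2, 0, 1], [1, 2, 3, 2, 0, 1, 2, 0, 1], [0, 1, 2, 3, 0, 1, 2, 0, 1], [2, 1, 2, 3, 0, 1, 2, 0, 1], [0, 1, 2, 3, 2, 1, 2, 0, 1], [2, 1, 2, 3, 2, 1, 2, 0, 1], [2, 3, 2, 1, 2, 0, 1, 2, 1], [1, 2, 3, 1, 2, 0, 1, 2, 1], [0, 1, 2, 3, 2, 0, 1, 2, 1], [2, 1, 2, 3, 2, 0, 1, 2, 1], [2, 0, 1, 2, 3, 0, 1, 2, 1], [3, 2, 1, 2, 3, 0, 1, 2, 1], [2, 0, 1, 2, 3, 2, 1, 2, 1], [1, 2, 3, 2, 1, 2, 0, 1, 2], [0, 1, 2, 3, 1, 2, 0, 1, 2], [2, 1, 2, 3, 1, 2, 0, 1, 2], [2, 0, 1, 2, 3, 2, 0, 1, 2], [3, 2, 1, 2, 3, 2, 0, 1, 2], [1, 2, 0, 1, 2, 3, 0, 1, 2], [3, 2, 0, 1, 2, 3, 0, 1, 2], [1, 2, 0, 1, 2, 3, 2, 1, 2], [2, 3, 2, 1, 2, 0, 1, 2, 0, 1], [1,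 2, 3, 1, 2, 0, 1, 2, 0, 1], [0, 1, 2, 3, 2, 0, 1, 2, 0, 1], [2, 1, 2, 3, 2, 0, 1, 2, 0, 1], [2, 0, 1, 2, 3, 0, 1, 2, 0, 1], [3, 2, 1, 2, 3, 0, 1, 2, 0, 1], [2, 0, 1, 2, 3, 2, 1, 2, 0, 1], [1, 2, 3, 2, 1, 2, 0, 1, 2, 1], [0, 1, 2, 3, 1, 2, 0, 1, 2, 1], [2, 1, 2, 3, 1, 2, 0, 1, 2, 1], [2, 0, 1, 2, 3, 2, 0, 1, 2, 1], [3, 2, 1, 2, 3, 2, 0, 1, 2, 1], [1, 2, 0, 1, 2, 3, 0, 1, 2, 1], [3, 2, 0, 1, 2, 3, 0, 1, 2, 1], [1, 2, 0, 1, 2, 3, 2, 1, 2, 1], [0, 1, 2, 3, 2, 1, 2, 0, 1, 2], [2, 1, 2, 3, 2, 1, 2, 0, 1, 2], [2, 0, 1, 2, 3, 1, 2, 0, 1, 2], [3, 2, 1, 2, 3, 1, 2, 0, 1, 2], [1, 2, 0, 1, 2, 3, 2, 0, 1, 2], [3, 2, 0, 1, 2, 3, 2, 0, 1, 2], [3, 1, 2, 0, 1, 2, 3, 0, 1, 2], [2, 1, 2, 0, 1, 2, 3, 2, 1, 2], [1, 2, 3, 2, 1, 2, 0, 1, 2, 0, 1], [0, 1, 2, 3, 1, 2, 0, 1, 2, 0, 1], [2, 1, 2, 3, 1, 2, 0, 1, 2, 0, 1], [2, 0,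 1, 2, 3, 2, 0, 1, 2, 0, 1], [3, 2, 1, 2, 3, 2, 0, 1, 2, 0, 1], [1, 2, 0, 1, 2, 3, 0, 1, 2, 0, 1], [3, 2, 0, 1, 2, 3, 0, 1, 2, 0, 1], [1, 2, 0, 1, 2, 3, 2, 1, 2, 0, 1], [0, 1, 2, 3, 2, 1, 2, 0, 1, 2, 1], [2, 1, 2, 3, 2, 1, 2, 0, 1, 2, 1], [2, 0, 1, 2, 3, 1, 2, 0, 1, 2, 1], [3, 2, 1, 2, 3, 1, 2, 0, 1, 2, 1], [1, 2, 0, 1, 2, 3, 2, 0, 1, 2, 1], [3, 2, 0, 1, 2, 3, 2, 0, 1, 2, 1], [3, 1, 2, 0, 1, 2, 3, 0, 1, 2, 1], [2, 1, 2, 0, 1, 2, 3, 2, 1, 2, 1], [2, 0, 1, 2, 3, 2, 1, 2, 0, 1, 2], [3, 2, 1, 2, 3, 2, 1, 2, 0, 1, 2], [1, 2, 0, 1, 2, 3, 1, 2, 0, 1, 2], [3, 2, 0, 1, 2, 3, 1, 2, 0, 1, 2], [2, 1, 2, 0, 1, 2, 3, 2, 0, 1, 2], [3, 1, 2, 0, 1, 2, 3, 2, 0, 1, 2], [2, 3, 1, 2, 0, 1, 2, 3, 0, 1, 2], [3, 2, 1, 2, 0, 1, 2, 3, 2, 1, 2], [0, 1, 2, 3, 2, 1, 2, 0, 1, 2, 0, 1], [2, 1, 2, 3, 2, 1, 2, 0, 1, 2, 0, 1], [2, 0,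 1, 2, 3, 1, 2, 0, 1, 2, 0, 1], [3, 2, 1, 2, 3, 1, 2, 0, 1, 2, 0, 1], [1, 2, 0, 1, 2, 3, 2, 0, 1, 2, 0, 1], [3, 2, 0, 1, 2, 3, 2, 0, 1, 2, 0, 1], [3, 1, 2, 0, 1, 2, 3, 0, 1, 2, 0, 1], [2, 1, 2, 0, 1, 2, 3, 2, 1, 2, 0, 1], [2, 0, 1, 2, 3, 2, 1, 2, 0, 1, 2, 1], [3, 2, 1, 2, 3, 2, 1, 2, 0, 1, 2, 1], [1, 2, 0, 1, 2, 3, 1, 2, 0, 1, 2, 1], [3, 2, 0, 1, 2, 3, 1, 2, 0, 1, 2, 1], [2, 1, 2, 0, 1, 2, 3, 2, 0, 1, 2, 1], [3, 1, 2, 0, 1, 2, 3, 2, 0, 1, 2, 1], [2, 3, 1, 2, 0, 1, 2, 3, 0, 1, 2, 1], [3, 2, 1, 2, 0, 1, 2, 3, 2, 1, 2, 1], [1, 2, 0, 1, 2, 3, 2, 1, 2, 0, 1, 2], [3, 2, 0, 1, 2, 3, 2, 1, 2, 0, 1, 2], [2, 1, 2, 0, 1, 2, 3, 1, 2, 0, 1, 2], [3, 1, 2, 0, 1, 2, 3, 1, 2, 0, 1, 2], [3, 2, 1, 2, 0, 1, 2, 3, 2, 0, 1, 2], [2, 3, 1, 2, 0, 1, 2, 3, 2, 0, 1, 2], [1, 2, 3, 1, 2, 0, 1, 2, 3, 0, 1, 2], [2, 0, 1, 2, 3, 2, 1,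 2, 0, 1, 2, 0, 1], [3, 2, 1, 2, 3, 2, 1, 2, 0, 1, 2, 0, 1], [1, 2, 0, 1, 2, 3, 1, 2, 0, 1, 2, 0, 1], [3, 2, 0, 1, 2, 3, 1, 2, 0, 1, 2, 0, 1], [2, 1, 2, 0, 1, 2, 3, 2, 0, 1, 2, 0, 1], [3, 1, 2, 0, 1, 2, 3, 2, 0, 1, 2, 0, 1], [2, 3, 1, 2, 0, 1, 2, 3, 0, 1, 2, 0, 1], [3, 2, 1, 2, 0, 1, 2, 3, 2, 1, 2, 0, 1], [1, 2, 0, 1, 2, 3, 2, 1, 2, 0, 1, 2, 1], [3, 2, 0, 1, 2, 3, 2, 1, 2, 0, 1, 2, 1], [2, 1, 2, 0, 1, 2, 3, 1, 2, 0, 1, 2, 1], [3, 1, 2, 0, 1, 2, 3, 1, 2, 0, 1, 2, 1], [3, 2, 1, 2, 0, 1, 2, 3, 2, 0, 1, 2, 1], [2, 3, 1, 2, 0, 1, 2, 3, 2, 0, 1, 2, 1], [1, 2, 3, 1, 2, 0, 1, 2, 3, 0, 1, 2, 1], [2, 1, 2, 0, 1, 2, 3, 2, 1, 2, 0, 1, 2], [3, 1, 2, 0, 1, 2, 3, 2, 1, 2, 0, 1, 2], [3, 2, 1, 2, 0, 1, 2, 3, 1, 2, 0, 1, 2], [2, 3, 1, 2, 0, 1, 2, 3, 1, 2, 0, 1, 2], [2, 3, 2, 1, 2, 0, 1, 2, 3, 2, 0, 1, 2], [1, 2, 3, 1,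 2, 0, 1, 2, 3, 2, 0, 1, 2], [0, 1, 2, 3, 1, 2, 0, 1, 2, 3, 0, 1, 2], [1, 2, 0, 1, 2, 3, 2, 1, 2, 0, 1, 2, 0, 1], [3, 2, 0, 1, 2, 3, 2, 1, 2, 0, 1, 2, 0, 1], [2, 1, 2, 0, 1, 2, 3, 1, 2, 0, 1, 2, 0, 1], [3, 1, 2, 0, 1, 2, 3, 1, 2, 0, 1, 2, 0, 1], [3, 2, 1, 2, 0, 1, 2, 3, 2, 0, 1, 2, 0, 1], [2, 3, 1, 2, 0, 1, 2, 3, 2, 0, 1, 2, 0, 1], [1, 2, 3, 1, 2, 0, 1, 2, 3, 0, 1, 2, 0, 1], [2, 1, 2, 0, 1, 2, 3, 2, 1, 2, 0, 1, 2, 1], [3, 1, 2, 0, 1, 2, 3, 2, 1, 2, 0, 1, 2, 1], [3, 2, 1, 2, 0, 1, 2, 3, 1, 2, 0, 1, 2, 1], [2, 3, 1, 2, 0, 1, 2, 3, 1, 2, 0, 1, 2, 1], [2, 3, 2, 1, 2, 0, 1, 2, 3, 2, 0, 1, 2, 1], [1, 2, 3, 1, 2, 0, 1, 2, 3, 2, 0, 1, 2, 1], [0, 1, 2, 3, 1, 2, 0, 1, 2, 3, 0, 1, 2, 1], [3, 2, 1, 2, 0, 1, 2, 3, 2, 1, 2, 0, 1, 2], [2, 3, 1, 2, 0, 1, 2, 3, 2, 1, 2, 0, 1, 2], [2, 3, 2, 1, 2, 0, 1, 2, 3, 1, 2, 0, 1,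 2], [1, 2, 3, 1, 2, 0, 1, 2, 3, 1, 2, 0, 1, 2], [1, 2, 3, 2, 1, 2, 0, 1, 2, 3, 2, 0, 1, 2], [0, 1, 2, 3, 1, 2, 0, 1, 2, 3, 2, 0, 1, 2], [2, 1, 2, 0, 1, 2, 3, 2, 1, 2, 0, 1, 2, 0, 1], [3, 1, 2, 0, 1, 2, 3, 2, 1, 2, 0, 1, 2, 0, 1], [3, 2, 1, 2, 0, 1, 2, 3, 1, 2, 0, 1, 2, 0, 1], [2, 3, 1, 2, 0, 1, 2, 3, 1, 2, 0, 1, 2, 0, 1], [2, 3, 2, 1, 2, 0, 1, 2, 3, 2, 0, 1, 2, 0, 1], [1, 2, 3, 1, 2, 0, 1, 2, 3, 2, 0, 1, 2, 0, 1], [0, 1, 2, 3, 1, 2, 0, 1, 2, 3, 0, 1, 2, 0, 1], [3, 2, 1, 2, 0, 1, 2, 3, 2, 1, 2, 0, 1, 2, 1], [2, 3, 1, 2, 0, 1, 2, 3, 2, 1, 2, 0, 1, 2, 1], [2, 3, 2, 1, 2, 0, 1, 2, 3, 1, 2, 0, 1, 2, 1], [1, 2, 3, 1, 2, 0, 1, 2, 3, 1, 2, 0, 1, 2, 1], [1, 2, 3, 2, 1, 2, 0, 1, 2, 3, 2, 0, 1, 2, 1], [0, 1, 2, 3, 1, 2, 0, 1, 2, 3, 2, 0, 1, 2, 1], [2, 3, 2, 1, 2, 0, 1, 2, 3, 2, 1, 2, 0, 1, 2], [1, 2, 3, 1, 2, 0,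 1, 2, 3, 2, 1, 2, 0, 1, 2], [1, 2, 3, 2, 1, 2, 0, 1, 2, 3, 1, 2, 0, 1, 2], [0, 1, 2, 3, 1, 2, 0, 1, 2, 3, 1, 2, 0, 1, 2], [0, 1, 2, 3, 2, 1, 2, 0, 1, 2, 3, 2, 0, 1, 2], [3, 2, 1, 2, 0, 1, 2, 3, 2, 1, 2, 0, 1, 2, 0, 1], [2, 3, 1, 2, 0, 1, 2, 3, 2, 1, 2, 0, 1, 2, 0, 1], [2, 3, 2, 1, 2, 0, 1, 2, 3, 1, 2, 0, 1, 2, 0, 1], [1, 2, 3, 1, 2, 0, 1, 2, 3, 1, 2, 0, 1, 2, 0, 1], [1, 2, 3, 2, 1, 2, 0, 1, 2, 3, 2, 0, 1, 2, 0, 1], [0, 1, 2, 3, 1, 2, 0, 1, 2, 3, 2, 0, 1, 2, 0, 1], [2, 3, 2, 1, 2, 0, 1, 2, 3, 2, 1, 2, 0, 1, 2, 1], [1, 2, 3, 1, 2, 0, 1, 2, 3, 2, 1, 2, 0, 1, 2, 1], [1, 2, 3, 2, 1, 2, 0, 1, 2, 3, 1, 2, 0, 1, 2, 1], [0, 1, 2, 3, 1, 2, 0, 1, 2, 3, 1, 2, 0, 1, 2, 1], [0, 1, 2, 3, 2, 1, 2, 0, 1, 2, 3, 2, 0, 1, 2, 1], [1, 2, 3, 2, 1, 2, 0, 1, 2, 3, 2, 1, 2, 0, 1, 2], [0, 1, 2, 3, 1, 2, 0, 1, 2, 3, 2, 1, 2, 0,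 1, 2], [0, 1, 2, 3, 2, 1, 2, 0, 1, 2, 3, 1, 2, 0, 1, 2], [2, 1, 2, 3, 2, 1, 2, 0, 1, 2, 3, 1, 2, 0, 1, 2], [2, 3, 2, 1, 2, 0, 1, 2, 3, 2, 1, 2, 0, 1, 2, 0, 1], [1, 2, 3, 1, 2, 0, 1, 2, 3, 2, 1, 2, 0, 1, 2, 0, 1], [1, 2, 3, 2, 1, 2, 0, 1, 2, 3, 1, 2, 0, 1, 2, 0, 1], [0, 1, 2, 3, 1, 2, 0, 1, 2, 3, 1, 2, 0, 1, 2, 0, 1], [0, 1, 2, 3, 2, 1, 2, 0, 1, 2, 3, 2, 0, 1, 2, 0, 1], [1, 2, 3, 2, 1, 2, 0, 1, 2, 3, 2, 1, 2, 0, 1, 2, 1], [0, 1, 2, 3, 1, 2, 0, 1, 2, 3, 2, 1, 2, 0, 1, 2, 1], [0, 1, 2, 3, 2, 1, 2, 0, 1, 2, 3, 1, 2, 0, 1, 2, 1], [2, 1, 2, 3, 2, 1, 2, 0, 1, 2, 3, 1, 2, 0, 1, 2, 1], [0, 1, 2, 3, 2, 1, 2, 0, 1, 2, 3, 2, 1, 2, 0, 1, 2], [2, 1, 2, 3, 2, 1, 2, 0, 1, 2, 3, 2, 1, 2, 0, 1, 2], [2, 0, 1, 2, 3, 2, 1, 2, 0, 1, 2, 3, 1, 2, 0, 1, 2], [1, 2, 3, 2, 1, 2, 0, 1, 2, 3, 2, 1, 2, 0, 1, 2, 0, 1], [0, 1, 2, 3,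 1, 2, 0, 1, 2, 3, 2, 1, 2, 0, 1, 2, 0, 1], [0, 1, 2, 3, 2, 1, 2, 0, 1, 2, 3, 1, 2, 0, 1, 2, 0, 1], [2, 1, 2, 3, 2, 1, 2, 0, 1, 2, 3, 1, 2, 0, 1, 2, 0, 1], [0, 1, 2, 3, 2, 1, 2, 0, 1, 2, 3, 2, 1, 2, 0, 1, 2, 1], [2, 1, 2, 3, 2, 1, 2, 0, 1, 2, 3, 2, 1, 2, 0, 1, 2, 1], [2, 0, 1, 2, 3, 2, 1, 2, 0, 1, 2, 3, 1, 2, 0, 1, 2, 1], [2, 0, 1, 2, 3, 2, 1, 2, 0, 1, 2, 3, 2, 1, 2, 0, 1, 2], [1, 2, 0, 1, 2, 3, 2, 1, 2, 0, 1, 2, 3, 1, 2, 0, 1, 2], [0, 1, 2, 3, 2, 1, 2, 0, 1, 2, 3, 2, 1, 2, 0, 1, 2, 0, 1], [2, 1, 2, 3, 2, 1, 2, 0, 1, 2, 3, 2, 1, 2, 0, 1, 2, 0, 1], [2, 0, 1, 2, 3, 2, 1, 2, 0, 1, 2, 3, 1, 2, 0, 1, 2, 0, 1], [2, 0, 1, 2, 3, 2, 1, 2, 0, 1, 2, 3, 2, 1, 2, 0, 1, 2, 1], [1, 2, 0, 1, 2, 3, 2, 1, 2, 0, 1, 2, 3, 1, 2, 0, 1, 2, 1], [1, 2, 0, 1, 2, 3, 2, 1, 2, 0, 1, 2, 3, 2, 1, 2, 0, 1, 2], [2, 0, 1, 2, 3, 2, 1,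 2, 0, 1, 2, 3, 2, 1, 2, 0, 1, 2, 0, 1], [1, 2, 0, 1, 2, 3, 2, 1, 2, 0, 1, 2, 3, 1, 2, 0, 1, 2, 0, 1], [1, 2, 0, 1, 2, 3, 2, 1, 2, 0, 1, 2, 3, 2, 1, 2, 0, 1, 2, 1], [2, 1, 2, 0, 1, 2, 3, 2, 1, 2, 0, 1, 2, 3, 2, 1, 2, 0, 1, 2], [1, 2, 0, 1, 2, 3, 2, 1, 2, 0, 1, 2, 3, 2, 1, 2, 0, 1, 2, 0, 1], [2, 1, 2, 0, 1, 2, 3, 2, 1, 2, 0, 1, 2, 3, 2, 1, 2, 0, 1, 2, 1], [2, 1, 2, 0, 1, 2, 3, 2, 1, 2, 0, 1, 2, 3, 2, 1, 2, 0, 1, 2, 0, 1]]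

def nxt2 : List (List (ℕ × ℕ)) := [[(0, 1), (1, 0), (2, 0), (0, 2)], [(3, 0), (0, 0), (4, 0), (1, 2)], [(2, 1), (5, 0), (0, 0), (6, 0)], [(1, 0), (3, 1), (7, 0), (3, 2)], [(7, 0), (8, 0), (1, 0), (9, 0)], [(10, 0), (2, 0), (11, 0), (12, 0)], [(6, 1), (12, 0), (6, 2), (2, 0)], [(4, 0), (13, 0), (3, 0), (14, 0)], [(15, 0), (4, 0), (16, 0), (17, 0)], [(14, 0), (17, 0), (9, 2), (4, 0)], [(5, 0), (10, 1), (18, 0), (19, 0)], [(18, 0), (16, 0), (5, 0), (20, 0)], [(19, 0), (6, 0), (21, 0), (5, 0)], [(22, 0), (7, 0), (23, 0), (24, 0)], [(9, 0), (24, 0), (14, 2), (7, 0)], [(8, 0), (22, 0), (25, 0), (26, 0)], [(25, 0), (11, 0), (8, 0), (27, 0)], [(26, 0), (9, 0), (28, 0), (8, 0)], [(11, 0), (29, 0), (10, 0), (30, 0)], [(12, 0), (19, 1), (31, 0), (10, 0)], [(30, 0), (27, 0), (32, 0), (11, 0)], [(31, 0), (33, 0),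 (12, 0), (32, 0)], [(13, 0), (15, 0), (34, 0), (35, 0)], [(34, 0), (23, 1), (13, 0), (36, 0)], [(35, 0), (14, 0), (37, 0), (13, 0)], [(16, 0), (38, 0), (15, 0), (39, 0)], [(17, 0), (35, 0), (40, 0), (15, 0)], [(39, 0), (20, 0), (41, 0), (16, 0)], [(40, 0), (42, 0), (17, 0), (41, 0)], [(38, 0), (18, 0), (43, 0), (44, 0)], [(20, 0), (44, 0), (45, 0), (18, 0)], [(21, 0), (46, 0), (19, 0), (45, 0)], [(45, 0), (47, 0), (20, 0), (21, 0)], [(48, 0), (21, 0), (33, 2), (47, 0)], [(23, 0), (49, 0), (22, 0), (50, 0)], [(24, 0), (26, 0), (51, 0), (22, 0)], [(50, 0), (36, 1), (52, 0), (23, 0)], [(51, 0), (53, 0), (24, 0), (52, 0)], [(29, 0), (25, 0), (54, 0), (55, 0)], [(27, 0), (55, 0), (56, 0), (25, 0)], [(28, 0), (57, 0), (26, 0), (56, 0)], [(56, 0), (58, 0), (27, 0), (28, 0)], [(59, 0), (28, 0), (42, 2), (58,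 0)], [(54, 0), (43, 1), (29, 0), (60, 0)], [(55, 0), (30, 0), (61, 0), (29, 0)], [(32, 0), (62, 0), (30, 0), (31, 0)], [(63, 0), (31, 0), (64, 0), (62, 0)], [(65, 0), (32, 0), (66, 0), (33, 0)], [(33, 0), (63, 0), (48, 2), (65, 0)], [(49, 1), (34, 0), (67, 0), (68, 0)], [(36, 0), (68, 0), (69, 0), (34, 0)], [(37, 0), (70, 0), (35, 0), (69, 0)], [(69, 0), (71, 0), (36, 0), (37, 0)], [(72, 0), (37, 0), (53, 2), (71, 0)], [(43, 0), (67, 0), (38, 0), (73, 0)], [(44, 0), (39, 0), (74, 0), (38, 0)], [(41, 0), (75, 0), (39, 0), (40, 0)], [(76, 0), (40, 0), (77, 0), (75, 0)], [(78, 0), (41, 0), (79, 0), (42, 0)], [(42, 0), (76, 0), (59, 2), (78, 0)], [(73, 0), (60, 1), (80, 0), (43, 0)], [(74, 0), (81, 0), (44, 0), (80, 0)], [(82, 0), (45, 0), (83, 0), (46, 0)], [(46, 0), (48, 0), (84, 0), (82, 0)], [(84, 0),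 (64, 1), (46, 0), (85, 0)], [(47, 0), (82, 0), (86, 0), (48, 0)], [(86, 0), (79, 0), (47, 0), (66, 2)], [(67, 1), (54, 0), (49, 0), (87, 0)], [(68, 1), (50, 0), (88, 0), (49, 0)], [(52, 0), (89, 0), (50, 0), (51, 0)], [(90, 0), (51, 0), (91, 0), (89, 0)], [(92, 0), (52, 0), (93, 0), (53, 0)], [(53, 0), (90, 0), (72, 2), (92, 0)], [(60, 0), (87, 0), (94, 0), (54, 0)], [(61, 0), (95, 0), (55, 0), (94, 0)], [(96, 0), (56, 0), (97, 0), (57, 0)], [(57, 0), (59, 0), (98, 0), (96, 0)], [(98, 0), (91, 0), (57, 0), (99, 0)], [(58, 0), (96, 0), (100, 0), (59, 0)], [(100, 0), (66, 0), (58, 0), (79, 2)], [(94, 0), (101, 0), (60, 0), (61, 0)], [(102, 0), (61, 0), (103, 0), (101, 0)], [(62, 0), (65, 0), (104, 0), (63, 0)], [(104, 0), (103, 0), (62, 0), (105, 0)], [(64, 0), (106, 0), (63, 0), (107, 0)], [(107, 0),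 (85, 1), (105, 0), (64, 0)], [(66, 0), (108, 0), (65, 0), (86, 2)], [(87, 1), (73, 0), (109, 0), (67, 0)], [(88, 1), (110, 0), (68, 0), (109, 0)], [(111, 0), (69, 0), (112, 0), (70, 0)], [(70, 0), (72, 0), (113, 0), (111, 0)], [(113, 0), (77, 0), (70, 0), (114, 0)], [(71, 0), (111, 0), (115, 0), (72, 0)], [(115, 0), (93, 1), (71, 0), (93, 2)], [(80, 0), (116, 0), (73, 0), (74, 0)], [(117, 0), (74, 0), (118, 0), (116, 0)], [(75, 0), (78, 0), (119, 0), (76, 0)], [(119, 0), (118, 0), (75, 0), (120, 0)], [(77, 0), (121, 0), (76, 0), (122, 0)], [(122, 0), (114, 0), (120, 0), (77, 0)], [(79, 0), (123, 0), (78, 0), (100, 2)], [(124, 0), (80, 0), (125, 0), (81, 0)], [(81, 0), (117, 0), (126, 0), (124, 0)], [(126, 0), (83, 0), (81, 0), (127, 0)], [(83, 0), (128, 0), (82, 0), (129, 0)], [(129, 0), (127, 0), (85,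 0), (83, 0)], [(106, 1), (84, 0), (106, 2), (130, 0)], [(85, 0), (130, 0), (129, 0), (84, 0)], [(123, 0), (86, 0), (131, 0), (108, 2)], [(109, 1), (132, 0), (87, 0), (88, 0)], [(133, 0), (88, 0), (134, 0), (132, 0)], [(89, 0), (92, 0), (135, 0), (90, 0)], [(135, 0), (134, 0), (89, 0), (136, 0)], [(91, 0), (137, 0), (90, 0), (138, 0)], [(138, 0), (99, 0), (136, 0), (91, 0)], [(93, 0), (139, 0), (92, 0), (115, 2)], [(140, 0), (94, 0), (141, 0), (95, 0)], [(95, 0), (102, 0), (142, 0), (140, 0)], [(142, 0), (97, 0), (95, 0), (143, 0)], [(97, 0), (144, 0), (96, 0), (145, 0)], [(145, 0), (143, 0), (99, 0), (97, 0)], [(137, 0), (98, 0), (121, 2), (146, 0)], [(99, 0), (146, 0), (145, 0), (98, 0)], [(108, 0), (100, 0), (147, 0), (123, 2)], [(101, 0), (140, 0), (148, 0), (102, 0)], [(148, 0), (125, 1), (101, 0),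 (149, 0)], [(103, 0), (150, 0), (102, 0), (151, 0)], [(151, 0), (105, 0), (149, 0), (103, 0)], [(150, 0), (104, 0), (152, 0), (153, 0)], [(105, 0), (153, 0), (107, 0), (104, 0)], [(130, 1), (107, 0), (154, 0), (106, 0)], [(147, 0), (152, 0), (108, 0), (155, 0)], [(156, 0), (109, 0), (157, 0), (110, 0)], [(110, 0), (133, 1), (158, 0), (156, 0)], [(158, 0), (112, 0), (110, 0), (159, 0)], [(112, 0), (160, 0), (111, 0), (161, 0)], [(161, 0), (159, 0), (114, 0), (112, 0)], [(121, 0), (113, 0), (137, 2), (162, 0)], [(114, 0), (162, 0), (161, 0), (113, 0)], [(139, 1), (115, 0), (163, 0), (139, 2)], [(116, 0), (124, 0), (164, 0), (117, 0)], [(164, 0), (157, 0), (116, 0), (165, 0)], [(118, 0), (166, 0), (117, 0), (167, 0)], [(167, 0), (120, 0), (165, 0), (118, 0)], [(166, 0), (119, 0), (168, 0), (169, 0)], [(120,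 0), (169, 0), (122, 0), (119, 0)], [(162, 0), (122, 0), (170, 0), (121, 0)], [(131, 0), (168, 0), (123, 0), (171, 0)], [(125, 0), (172, 0), (124, 0), (173, 0)], [(173, 0), (149, 1), (127, 0), (125, 0)], [(128, 0), (126, 0), (174, 0), (175, 0)], [(127, 0), (175, 0), (173, 0), (126, 0)], [(174, 0), (131, 0), (128, 0), (176, 0)], [(175, 0), (129, 0), (177, 0), (128, 0)], [(154, 1), (178, 0), (130, 0), (154, 2)], [(171, 0), (176, 0), (155, 2), (131, 0)], [(132, 0), (156, 1), (179, 0), (133, 0)], [(179, 0), (141, 0), (132, 0), (180, 0)], [(134, 0), (181, 0), (133, 0), (182, 0)], [(182, 0), (136, 0), (180, 0), (134, 0)], [(181, 0), (135, 0), (183, 0), (184, 0)], [(136, 0), (184, 0), (138, 0), (135, 0)], [(146, 0), (138, 0), (185, 0), (137, 0)], [(163, 1), (183, 0), (139, 0), (186, 0)], [(141, 0), (187, 0),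 (140, 0), (188, 0)], [(188, 0), (180, 0), (143, 0), (141, 0)], [(144, 0), (142, 0), (189, 0), (190, 0)], [(143, 0), (190, 0), (188, 0), (142, 0)], [(189, 0), (147, 0), (144, 0), (191, 0)], [(190, 0), (145, 0), (192, 0), (144, 0)], [(185, 0), (193, 0), (146, 0), (170, 2)], [(155, 0), (191, 0), (171, 2), (147, 0)], [(172, 1), (148, 0), (194, 0), (195, 0)], [(149, 0), (195, 0), (151, 0), (148, 0)], [(152, 0), (189, 0), (150, 0), (196, 0)], [(153, 0), (151, 0), (197, 0), (150, 0)], [(196, 0), (155, 0), (198, 0), (152, 0)], [(197, 0), (199, 0), (153, 0), (198, 0)], [(200, 0), (154, 0), (199, 0), (178, 2)], [(157, 0), (201, 0), (156, 0), (202, 0)], [(202, 0), (165, 0), (159, 0), (157, 0)], [(160, 0), (158, 0), (203, 0), (204, 0)], [(159, 0), (204, 0), (202, 0), (158, 0)], [(203, 0), (163, 0), (160, 0), (205,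 0)], [(204, 0), (161, 0), (206, 0), (160, 0)], [(170, 0), (207, 0), (162, 0), (185, 2)], [(186, 1), (205, 0), (186, 2), (163, 0)], [(201, 0), (164, 0), (208, 0), (209, 0)], [(165, 0), (209, 0), (167, 0), (164, 0)], [(168, 0), (174, 0), (166, 0), (210, 0)], [(169, 0), (167, 0), (211, 0), (166, 0)], [(210, 0), (171, 0), (212, 0), (168, 0)], [(211, 0), (213, 0), (169, 0), (212, 0)], [(214, 0), (170, 0), (213, 0), (193, 2)], [(194, 1), (208, 0), (172, 0), (215, 0)], [(195, 1), (173, 0), (216, 0), (172, 0)], [(176, 0), (210, 0), (217, 0), (174, 0)], [(177, 0), (218, 0), (175, 0), (217, 0)], [(217, 0), (219, 0), (176, 0), (177, 0)], [(220, 0), (177, 0), (178, 0), (219, 0)], [(178, 0), (200, 1), (220, 0), (200, 2)], [(187, 0), (179, 0), (221, 0), (222, 0)], [(180, 0), (222, 0), (182, 0), (179, 0)], [(183, 0),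 (203, 1), (181, 0), (223, 0)], [(184, 0), (182, 0), (224, 0), (181, 0)], [(223, 0), (186, 0), (225, 0), (183, 0)], [(224, 0), (226, 0), (184, 0), (225, 0)], [(227, 0), (185, 0), (226, 0), (207, 2)], [(221, 0), (194, 0), (187, 0), (228, 0)], [(222, 0), (188, 0), (229, 0), (187, 0)], [(191, 0), (196, 0), (230, 0), (189, 0)], [(192, 0), (231, 0), (190, 0), (230, 0)], [(230, 0), (232, 0), (191, 0), (192, 0)], [(233, 0), (192, 0), (193, 0), (232, 0)], [(193, 0), (227, 0), (233, 0), (214, 2)], [(215, 1), (228, 0), (234, 0), (194, 0)], [(216, 1), (235, 0), (195, 0), (234, 0)], [(198, 0), (236, 0), (196, 0), (197, 0)], [(237, 0), (197, 0), (235, 0), (236, 0)], [(238, 0), (198, 0), (219, 2), (199, 0)], [(199, 0), (237, 0), (200, 0), (238, 0)], [(208, 0), (221, 1), (201, 0), (239, 0)], [(209, 0), (202, 0), (240,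 0), (201, 0)], [(205, 0), (223, 1), (241, 0), (203, 0)], [(206, 0), (242, 0), (204, 0), (241, 0)], [(241, 0), (243, 0), (205, 0), (206, 0)], [(244, 0), (206, 0), (207, 0), (243, 0)], [(207, 0), (214, 0), (244, 0), (227, 2)], [(239, 0), (215, 0), (245, 0), (208, 0)], [(240, 0), (246, 0), (209, 0), (245, 0)], [(212, 0), (247, 0), (210, 0), (211, 0)], [(248, 0), (211, 0), (246, 0), (247, 0)], [(249, 0), (212, 0), (232, 2), (213, 0)], [(213, 0), (248, 0), (214, 0), (249, 0)], [(234, 1), (250, 0), (215, 0), (216, 0)], [(251, 0), (216, 0), (218, 0), (250, 0)], [(252, 0), (217, 0), (253, 0), (218, 0)], [(218, 0), (220, 0), (251, 0), (252, 0)], [(219, 0), (252, 0), (238, 2), (220, 0)], [(228, 0), (239, 1), (254, 0), (221, 0)], [(229, 0), (255, 0), (222, 0), (254, 0)], [(225, 0), (256, 0), (223, 0), (224, 0)],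 [(257, 0), (224, 0), (255, 0), (256, 0)], [(258, 0), (225, 0), (243, 2), (226, 0)], [(226, 0), (257, 0), (227, 0), (258, 0)], [(254, 0), (259, 0), (228, 0), (229, 0)], [(260, 0), (229, 0), (231, 0), (259, 0)], [(261, 0), (230, 0), (262, 0), (231, 0)], [(231, 0), (233, 0), (260, 0), (261, 0)], [(232, 0), (261, 0), (249, 2), (233, 0)], [(263, 0), (234, 0), (264, 0), (235, 0)], [(235, 0), (251, 1), (237, 0), (263, 0)], [(236, 0), (238, 0), (265, 0), (237, 0)], [(265, 0), (262, 0), (236, 0), (264, 0)], [(245, 0), (266, 0), (239, 0), (240, 0)], [(267, 0), (240, 0), (242, 0), (266, 0)], [(268, 0), (241, 0), (269, 0), (242, 0)], [(242, 0), (244, 0), (267, 0), (268, 0)], [(243, 0), (268, 0), (258, 2), (244, 0)], [(270, 0), (245, 0), (271, 0), (246, 0)], [(246, 0), (267, 0), (248, 0), (270, 0)], [(247, 0), (249,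 0), (272, 0), (248, 0)], [(272, 0), (253, 0), (247, 0), (271, 0)], [(250, 0), (263, 1), (273, 0), (251, 0)], [(273, 0), (271, 0), (250, 0), (253, 0)], [(253, 0), (274, 0), (252, 0), (273, 0)], [(275, 0), (254, 0), (276, 0), (255, 0)], [(255, 0), (260, 0), (257, 0), (275, 0)], [(256, 0), (258, 0), (277, 0), (257, 0)], [(277, 0), (269, 1), (256, 0), (276, 0)], [(259, 0), (275, 0), (278, 0), (260, 0)], [(278, 0), (264, 0), (259, 0), (262, 0)], [(262, 0), (279, 0), (261, 0), (278, 0)], [(264, 0), (280, 0), (263, 0), (265, 0)], [(279, 0), (265, 0), (274, 2), (280, 0)], [(266, 0), (270, 0), (281, 0), (267, 0)], [(281, 0), (276, 1), (266, 0), (269, 0)], [(269, 0), (282, 0), (268, 0), (281, 0)], [(271, 0), (283, 0), (270, 0), (272, 0)], [(274, 0), (272, 0), (279, 2), (283, 0)], [(283, 0), (273, 0), (284, 0),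 (274, 0)], [(276, 0), (285, 0), (275, 0), (277, 0)], [(282, 1), (277, 0), (282, 2), (285, 0)], [(280, 0), (278, 0), (286, 0), (279, 0)], [(286, 0), (284, 1), (280, 0), (284, 2)], [(285, 1), (281, 0), (287, 0), (282, 0)], [(284, 0), (287, 0), (283, 0), (286, 2)], [(287, 1), (286, 0), (285, 0), (287, 2)]]

theorem step1 : stepOK tws1 nxt1 L8 = true := by decide +kernel
theorem step2 : stepOK tws2 nxt2 L4 = true := by decide +kernel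
theorem closed8 : closedOK L8 = true := by decide +kernel
theorem closed4 : closedOK L4 = true := by decide +kernel
theorem final1 : finalOK tws1 L8 47 44 A1 = true := by decide +kernel
theorem final2 : finalOK tws2 L4 39 45 A2 = true := by decide +kernel

/-- (WC1) -/
theorem weyl_class1 (word : List ℕ) (hw : ∀ i ∈ word, i < 4)
    (h47 : rho chevF4 word 47 ∈ A1) (h44 : rho chevF4 word 44 ∈ A1) :
    ∃ c ∈ L8, ∀ r < 48, rho chevF4 word r = rho chevF4 c r :=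
  weyl_class_gen tws1 nxt1 L8 47 44 A1 (by decide) (by decide) (by decide) (by decide) (by decide)
    (by decide +kernel) (by decide +kernel) step1 closed8 final1 word hw h47 h44

/-- (WC2) -/
theorem weyl_class2 (word : List ℕ) (hw : ∀ i ∈ word, i < 4)
    (h39 : rho chevF4 word 39 ∈ A2) (h45 : rho chevF4 word 45 ∈ A2) :
    ∃ c ∈ L4, ∀ r < 48, rho chevF4 word r = rho chevF4 c r :=
  weyl_class_gen tws2 nxt2 L4 39 45 A2 (by decide) (by decide) (by decide) (by decide) (by decide)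
    (by decide +kernel) (by decide +kernel) step2 closed4 final2 word hw h39 h45

end Cfsg.Agent.Helper36.F4Mix
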