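import Cfsg.Agent.Helper36.F4Mix.P_ST

/-!
Helper36, S2179, piece (BC): the Bruhat normal form of an element commuting with `v = ev A c₀`, where
the set of the `ev A c` with `c a ≠ 0`, `c b ≠ 0` is stable under `B`.
-/

set_option autoImplicit false

namespace Cfsg.Agent.Helper36.F4Mix

open Cfsg Cfsg.Lie Cfsg.Agent.Helper18

variable {F : Type*} [Field F]

local notation "hF4" => Cfsg.Agent.Helper36.SigmaF4.hF4

/-- `U_n⁻` does not change when `n` is multiplied by an element of `H` on the left -/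
theorem bruU_diag_mul (h : GL chevF4.Idx F) (hh : h ∈ chevF4.diagonalSubgroup F) (word : List ℕ)
    (hw : ∀ i ∈ word, i < 4) :
    bruU (h * nWordsGL chevF4 F word) = bruU (nWordsGL chevF4 F word) := by
  have hw' : ∀ i ∈ word, i < chevF4.rank := hw
  unfold bruU
  congr 1
  ext x
  constructor
  · rintro ⟨r, t, hr, hle, hx⟩
    refine ⟨r, t, hr, ?_, hx⟩
    have e : (chevF4.rootSubgroup F r).map (MulAut.conj (h * nWordsGL chevF4 F word)).toMonoidHom =
        (chevF4.rootSubgroup F r).map (MulAut.conj (nWordsGL chevF4 F word)).toMonoidHom := by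
      have := Cfsg.Agent.Helper36.HighRoot.cj_mul h (nWordsGL chevF4 F word) (chevF4.rootSubgroup F r)
      unfold Cfsg.Agent.Helper36.HighRoot.cj at this
      rw [this, Cfsg.Agent.Helper36.HighRoot.rootSubgroup_conj_word chevF4 hF4 word hw' r hr.1,
        Cfsg.Agent.Helper36.HighRoot.rootSubgroup_conj_diag chevF4 hF4 h hh _
          (rho_lt chevF4 hF4 word hw' r hr.1)]
    rw [← e]
    exact hle
  · rintro ⟨r, t, hr, hle, hx⟩
    refine ⟨r, t, hr, ?_, hx⟩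
    have e : (chevF4.rootSubgroup F r).map (MulAut.conj (h * nWordsGL chevF4 F word)).toMonoidHom =
        (chevF4.rootSubgroup F r).map (MulAut.conj (nWordsGL chevF4 F word)).toMonoidHom := by
      have := Cfsg.Agent.Helper36.HighRoot.cj_mul h (nWordsGL chevF4 F word) (chevF4.rootSubgroup F r)
      unfold Cfsg.Agent.Helper36.HighRoot.cj at this
      rw [this, Cfsg.Agent.Helper36.HighRoot.rootSubgroup_conj_word chevF4 hF4 word hw' r hr.1,
        Cfsg.Agent.Helper36.HighRoot.rootSubgroup_conj_diag chevF4 hF4 h hh _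
          (rho_lt chevF4 hF4 word hw' r hr.1)]
    rw [e]
    exact hle

/-- (BC) -/
theorem bruhat_commute (A : List ℕ) (hnd : A.Nodup) (hpos : ∀ r ∈ A, chevF4.IsPosRoot r)
    (hcomm : ∀ r ∈ A, ∀ s ∈ A, ∀ a b : F, Commute (xGL chevF4 F r a) (xGL chevF4 F s b))
    (a b : ℕ) (ha : a ∈ A) (hb : b ∈ A)
    (hB : ∀ x ∈ chevF4.borelSubgroup F, ∀ c : ℕ → F, c a ≠ 0 → c b ≠ 0 →
      ∃ c' : ℕ → F, x * ev A c * x⁻¹ = ev A c' ∧ c' a ≠ 0 ∧ c' b ≠ 0)
    (c₀ : ℕ → F) (ha0 : c₀ a ≠ 0) (hb0 : c₀ b ≠ 0)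
    (g : GL chevF4.Idx F) (hg : g ∈ chevF4.group F) (hgv : g * ev A c₀ = ev A c₀ * g) :
    ∃ x ∈ chevF4.borelSubgroup F, ∃ word : List ℕ, (∀ i ∈ word, i < 4) ∧
      ∃ u ∈ bruU (nWordsGL chevF4 F word), g = x * nWordsGL chevF4 F word * u ∧
        rho chevF4 word a ∈ A ∧ rho chevF4 word b ∈ A := by
  obtain ⟨b₁, hb₁, n, hn, u, hu, rfl⟩ := (Cfsg.Agent.S1100.result (F := F) chevF4 hF4).1 g hg
  obtain ⟨word, hww, h, hh, rfl⟩ := mem_monomial_decomp chevF4 hF4 n hn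
  have hw : ∀ i ∈ word, i < 4 := hww
  have hu' : u ∈ bruU (nWordsGL chevF4 F word) := by
    rw [← bruU_diag_mul h hh word hw]
    exact hu
  have huU : u ∈ chevF4.posUnipotent F := Cfsg.Agent.Helper36.bruhatU_le_pos chevF4 _ hu
  have huB : u ∈ chevF4.borelSubgroup F := Subgroup.mem_sup_left huU
  set x := b₁ * h with hx
  have hxB : x ∈ chevF4.borelSubgroup F := Subgroup.mul_mem _ hb₁ (Subgroup.mem_sup_right hh)
  set n' := nWordsGL chevF4 F word with hn'
  have hgx : b₁ * (h * n') * u = x * n' * u := by rw [hx]; group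
  obtain ⟨c', e1, hc'a, hc'b⟩ := hB u huB c₀ ha0 hb0
  obtain ⟨d, e2, -, -⟩ := hB x⁻¹ (Subgroup.inv_mem _ hxB) c₀ ha0 hb0
  rw [inv_inv] at e2
  have heq : n' * ev A c' * n'⁻¹ = ev A d := by
    rw [← e1, ← e2]
    rw [hgx] at hgv
    have : x * n' * u * ev A c₀ * u⁻¹ * n'⁻¹ * x⁻¹ = ev A c₀ := by
      rw [hgv]; group
    calc n' * (u * ev A c₀ * u⁻¹) * n'⁻¹
        = x⁻¹ * (x * n' * u * ev A c₀ * u⁻¹ * n'⁻¹ * x⁻¹) * x := by group
      _ = x⁻¹ * ev A c₀ * x := by rw [this]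
  have hst := supp_transport A hnd hpos hcomm word hw c' d heq
  exact ⟨x, hxB, word, hw, u, hu', hgx, hst a ha hc'a, hst b hb hc'b⟩

end Cfsg.Agent.Helper36.F4Mix
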