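import Cfsg.Agent.Helper36.F4Mix.P_EV

/-!
Helper36, S2179, piece (BS): the sets `{ev A2 c : c 39 ≠ 0, c 45 ≠ 0}` and `{ev A1 c : c 47 ≠ 0, c 44 ≠ 0}`
are stable under conjugation by `B = U H`.  From (EV) for the generators of `U` (closure induction, with
the statement for `u` and `u⁻¹` together), and `Cfsg.Agent.Helper18.diagonalSubgroup_char` for `H`.
-/

set_option autoImplicit false

namespace Cfsg.Agent.Helper36.F4Mix

open Cfsg Cfsg.Lie Cfsg.Agent.Helper18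

variable {F : Type*} [Field F]

/-! ### auxiliary lemmas of piece (BS) (all names prefixed `BS_`) -/

/-- the elements conjugating the set `{ev A c : good c}` into itself, together with their inverses -/
def BS_stab (A : List ℕ) (good : (ℕ → F) → Prop) : Subgroup (GL chevF4.Idx F) where
  carrier := {x | (∀ c, good c → ∃ c', x * ev A c * x⁻¹ = ev A c' ∧ good c') ∧
    (∀ c, good c → ∃ c', x⁻¹ * ev A c * x⁻¹⁻¹ = ev A c' ∧ good c')}
  one_mem' := by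
    refine ⟨fun c hc => ⟨c, by simp, hc⟩, fun c hc => ⟨c, by simp, hc⟩⟩
  mul_mem' := by
    rintro x y ⟨hx1, hx2⟩ ⟨hy1, hy2⟩
    refine ⟨fun c hc => ?_, fun c hc => ?_⟩
    · obtain ⟨c1, e1, g1⟩ := hy1 c hc
      obtain ⟨c2, e2, g2⟩ := hx1 c1 g1
      refine ⟨c2, ?_, g2⟩
      rw [← e2, ← e1]
      group
    · obtain ⟨c1, e1, g1⟩ := hx2 c hc
      obtain ⟨c2, e2, g2⟩ := hy2 c1 g1
      refine ⟨c2, ?_, g2⟩
      rw [← e2, ← e1]
      group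
  inv_mem' := by
    rintro x ⟨hx1, hx2⟩
    refine ⟨hx2, fun c hc => ?_⟩
    obtain ⟨c1, e1, g1⟩ := hx1 c hc
    refine ⟨c1, ?_, g1⟩
    rw [← e1]
    group

theorem BS_mem_stab {A : List ℕ} {good : (ℕ → F) → Prop} {x : GL chevF4.Idx F} :
    x ∈ BS_stab A good ↔ (∀ c, good c → ∃ c', x * ev A c * x⁻¹ = ev A c' ∧ good c') ∧
      (∀ c, good c → ∃ c', x⁻¹ * ev A c * x⁻¹⁻¹ = ev A c' ∧ good c') := Iff.rfl

/-- a diagonal element multiplies the coefficients by the values of a character -/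
theorem BS_diag (A : List ℕ) (hA : ∀ r ∈ A, r < 48) (k : GL chevF4.Idx F) (χ : ℕ → F)
    (hχ : ∀ r < chevF4.nroots, ∀ t : F, k * xGL chevF4 F r t = xGL chevF4 F r (χ r * t) * k) (c : ℕ → F) :
    k * ev A c = ev A (fun r => χ r * c r) * k := by
  induction A with
  | nil => rw [ev_nil, ev_nil, mul_one, one_mul]
  | cons r A ih =>
    rw [ev_cons, ev_cons, ← mul_assoc, hχ r (by rw [EV_nroots]; exact hA r List.mem_cons_self), mul_assoc,
      ih fun s hs => hA s (List.mem_cons_of_mem _ hs), mul_assoc]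

/-- the diagonal subgroup stabilizes `{ev A c : good c}` when `good` is invariant under rescaling -/
theorem BS_diag_le (A : List ℕ) (hA : ∀ r ∈ A, r < 48) (good : (ℕ → F) → Prop)
    (hgood : ∀ (χ : ℕ → F), (∀ s, χ s ≠ 0) → ∀ c, good c → good fun r => χ r * c r) :
    chevF4.diagonalSubgroup F ≤ BS_stab A good := by
  have key : ∀ k ∈ chevF4.diagonalSubgroup F, ∀ c, good c →
      ∃ c', k * ev A c * k⁻¹ = ev A c' ∧ good c' := by
    intro k hk c hc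
    obtain ⟨χ, hχ0, -, hχ⟩ := diagonalSubgroup_char chevF4 EV_hF4 k hk
    refine ⟨fun r => χ r * c r, ?_, hgood χ hχ0 c hc⟩
    rw [BS_diag A hA k χ hχ c]
    group
  intro k hk
  exact ⟨key k hk, key k⁻¹ (inv_mem hk)⟩

theorem BS_act2_39 (s : ℕ) (t : F) (c : ℕ → F) : act2 s t c 39 = c 39 := by
  unfold act2
  split_ifs <;> simp [Function.update_of_ne]

theorem BS_act2_45 (s : ℕ) (t : F) (c : ℕ → F) : act2 s t c 45 = c 45 := by
  unfold act2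
  split_ifs <;> simp [Function.update_of_ne]

/-- `U` stabilizes `{ev A2 c : c 39 ≠ 0, c 45 ≠ 0}` -/
theorem BS_pos_le2 [CharP F 2] :
    chevF4.posUnipotent F ≤ BS_stab A2 (fun c : ℕ → F => c 39 ≠ 0 ∧ c 45 ≠ 0) := by
  have htri := triOK_of_mem chevF4 EV_hF4
  have key : ∀ (r : ℕ) (t : F), chevF4.IsPosRoot r → ∀ c : ℕ → F, (c 39 ≠ 0 ∧ c 45 ≠ 0) →
      ∃ c', xGL chevF4 F r t * ev A2 c * (xGL chevF4 F r t)⁻¹ = ev A2 c' ∧ (c' 39 ≠ 0 ∧ c' 45 ≠ 0) := by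
    intro r t hr c hc
    refine ⟨act2 r t c, ?_, ?_⟩
    · rw [ev_conj2 r hr t c]
      group
    · rw [BS_act2_39, BS_act2_45]
      exact hc
  unfold ChevalleyDatum.posUnipotent
  rw [Subgroup.closure_le]
  rintro g ⟨r, t, hr, hg⟩
  have e : g = xGL chevF4 F r t := Units.ext (by rw [hg, xGL_val _ _ htri])
  rw [SetLike.mem_coe, e, BS_mem_stab]
  refine ⟨key r t hr, ?_⟩
  rw [xGL_inv' chevF4 EV_hF4]
  exact key r (-t) hr

/-- `U` stabilizes `{ev A1 c : c 47 ≠ 0, c 44 ≠ 0}` -/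
theorem BS_pos_le1 [CharP F 2] :
    chevF4.posUnipotent F ≤ BS_stab A1 (fun c : ℕ → F => c 47 ≠ 0 ∧ c 44 ≠ 0) := by
  have htri := triOK_of_mem chevF4 EV_hF4
  have key : ∀ (r : ℕ) (t : F), chevF4.IsPosRoot r → ∀ c : ℕ → F, (c 47 ≠ 0 ∧ c 44 ≠ 0) →
      ∃ c', xGL chevF4 F r t * ev A1 c * (xGL chevF4 F r t)⁻¹ = ev A1 c' ∧ (c' 47 ≠ 0 ∧ c' 44 ≠ 0) := by
    intro r t hr c hc
    refine ⟨c, ?_, hc⟩
    rw [ev_conj1 r hr t c]
    group
  unfold ChevalleyDatum.posUnipotent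
  rw [Subgroup.closure_le]
  rintro g ⟨r, t, hr, hg⟩
  have e : g = xGL chevF4 F r t := Units.ext (by rw [hg, xGL_val _ _ htri])
  rw [SetLike.mem_coe, e, BS_mem_stab]
  refine ⟨key r t hr, ?_⟩
  rw [xGL_inv' chevF4 EV_hF4]
  exact key r (-t) hr

/-- (BS2) -/
theorem borel_stable2 [CharP F 2] : ∀ x ∈ chevF4.borelSubgroup F, ∀ c : ℕ → F, c 39 ≠ 0 → c 45 ≠ 0 →
    ∃ c' : ℕ → F, x * ev A2 c * x⁻¹ = ev A2 c' ∧ c' 39 ≠ 0 ∧ c' 45 ≠ 0 := by
  intro x hx c h39 h45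
  have hle : chevF4.borelSubgroup F ≤ BS_stab A2 (fun c : ℕ → F => c 39 ≠ 0 ∧ c 45 ≠ 0) := by
    unfold ChevalleyDatum.borelSubgroup
    refine sup_le BS_pos_le2 (BS_diag_le A2 EV_A2_lt _ ?_)
    intro χ hχ c hc
    exact ⟨mul_ne_zero (hχ 39) hc.1, mul_ne_zero (hχ 45) hc.2⟩
  exact (hle hx).1 c ⟨h39, h45⟩

/-- (BS1) -/
theorem borel_stable1 [CharP F 2] : ∀ x ∈ chevF4.borelSubgroup F, ∀ c : ℕ → F, c 47 ≠ 0 → c 44 ≠ 0 →
    ∃ c' : ℕ → F, x * ev A1 c * x⁻¹ = ev A1 c' ∧ c' 47 ≠ 0 ∧ c' 44 ≠ 0 := by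
  intro x hx c h47 h44
  have hle : chevF4.borelSubgroup F ≤ BS_stab A1 (fun c : ℕ → F => c 47 ≠ 0 ∧ c 44 ≠ 0) := by
    unfold ChevalleyDatum.borelSubgroup
    refine sup_le BS_pos_le1 (BS_diag_le A1 EV_A1_lt _ ?_)
    intro χ hχ c hc
    exact ⟨mul_ne_zero (hχ 47) hc.1, mul_ne_zero (hχ 44) hc.2⟩
  exact (hle hx).1 c ⟨h47, h44⟩

end Cfsg.Agent.Helper36.F4Mix
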