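import Cfsg.Agent.Helper36.RootCent
import Cfsg.Agent.Helper36.SigmaF4
import Cfsg.Agent.S1100

/-!
Helper36: the centralizers of the two mixed involutions `x_47(1) x_44(1)` and `x_39(1) x_45(1)` of
`F₄(q)`, `q` even (S2179).  Definitions shared by the pieces.

Route: an involution `v = ev A c₀` lying in an abelian product `E_A` of positive root subgroups that
is stable under `B`.  If `g = b n u` (Bruhat) commutes with `v`, then `n` maps an element of the
`B`-orbit of `v` to another one, which forces the Weyl group element of `n` into a small parabolic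
subgroup; what is left is the centralizer of `v` in `B`.
-/

set_option autoImplicit false

namespace Cfsg.Agent.Helper36.F4Mix

open Cfsg Cfsg.Lie Cfsg.Agent.Helper18

variable {F : Type*} [Field F]

/-- the product of the root elements `x_r(c r)`, `r` running through the list `A` -/
noncomputable def ev (A : List ℕ) (c : ℕ → F) : GL chevF4.Idx F :=
  (A.map fun r => xGL chevF4 F r (c r)).prod

/-- the subgroup `U_n⁻` of the Bruhat normal form (as in S1100) -/
def bruU (n : GL chevF4.Idx F) : Subgroup (GL chevF4.Idx F) :=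
  Subgroup.closure {x : GL chevF4.Idx F | ∃ (r : ℕ) (t : F), chevF4.IsPosRoot r ∧
    (chevF4.rootSubgroup F r).map (MulAut.conj n).toMonoidHom ≤ chevF4.negUnipotent F ∧
      (x : Matrix chevF4.Idx chevF4.Idx F) = chevF4.x F r t}

/-- the roots of the abelian subgroup for `x_47(1) x_44(1)` -/
def A1 : List ℕ := [44, 47]

/-- the roots of the abelian subgroup for `x_39(1) x_45(1)`: `(1,2,2,1)`, `(1,3,2,1)`, `(2,3,2,1)` short and
`(2,4,2,1)`, `(2,4,3,1)`, `(2,4,3,2)` long -/
def A2 : List ℕ := [39, 40, 44, 45, 46, 47]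

/-- the coefficients of `x_47(1) x_44(1)` -/
def c1 : ℕ → F := fun r => if r = 44 ∨ r = 47 then 1 else 0

/-- the coefficients of `x_39(1) x_45(1)` -/
def c2 : ℕ → F := fun r => if r = 39 ∨ r = 45 then 1 else 0

/-- words for the elements of `⟨s_{p₂}, s_{p₃}⟩` -/
def L8 : List (List ℕ) := [[], [1], [2], [1, 2], [2, 1], [1, 2, 1], [2, 1, 2], [1, 2, 1, 2]]

/-- words for the elements of `⟨s_{p₁}, s_{p₄}⟩` -/
def L4 : List (List ℕ) := [[], [0], [3], [3, 0]]

/-- the claimed centralizer of `x_47(1) x_44(1)` -/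
def R1 (F : Type*) [Field F] : Subgroup (GL chevF4.Idx F) :=
  chevF4.posUnipotent F ⊔ chevF4.rootSubgroup F 20 ⊔ chevF4.rootSubgroup F 22

/-- the claimed centralizer of `x_39(1) x_45(1)` -/
def R2 (F : Type*) [Field F] : Subgroup (GL chevF4.Idx F) :=
  chevF4.rootSubgroup F 33 ⊔ chevF4.rootSubgroup F 14 ⊔ chevF4.rootSubgroup F 24 ⊔ chevF4.rootSubgroup F 23 ⊔
    Subgroup.closure {g : GL chevF4.Idx F | ∃ (r : ℕ) (c : F), chevF4.IsPosRoot r ∧ r ∉ [27, 25, 34, 26] ∧
      (g : Matrix chevF4.Idx chevF4.Idx F) = chevF4.x F r c}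

theorem ev_nil (c : ℕ → F) : ev [] c = 1 := rfl

theorem ev_cons (r : ℕ) (A : List ℕ) (c : ℕ → F) : ev (r :: A) c = xGL chevF4 F r (c r) * ev A c := by
  simp [ev]

theorem xGL_zero (r : ℕ) : xGL chevF4 F r (0 : F) = 1 :=
  Cfsg.Agent.Helper19.Poinc.xGL_zero' chevF4 Cfsg.Agent.Helper36.SigmaF4.hF4 r

theorem ev_c1 : ev A1 (c1 : ℕ → F) = xGL chevF4 F 44 1 * xGL chevF4 F 47 1 := by
  simp [ev, A1, c1]

theorem ev_c2 : ev A2 (c2 : ℕ → F) = xGL chevF4 F 39 1 * xGL chevF4 F 45 1 := by
  simp [ev, A2, c2, xGL_zero]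

end Cfsg.Agent.Helper36.F4Mix
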