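import Cfsg.Agent.Helper36.F4MixAlt.CB

/-!
Helper36, S2179, piece (CB): the centralizers in `B` of the two involutions lie in the claimed subgroups.
The proofs are in `Helper36/F4MixAlt/CB.lean`: `b = u h` (`u ∈ U`, `h ∈ H`), `u` the standard ordered
product over the 24 positive roots; `h v h⁻¹ = ev A (χ · c)`; `ev` is pushed through the product by (EV);
the coefficients are compared by (PU2); the torus part from the Cartan integers of the two roots.
-/

set_option autoImplicit false

namespace Cfsg.Agent.Helper36.F4Mix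

open Cfsg Cfsg.Lie Cfsg.Agent.Helper18

variable {F : Type*} [Field F]

/-- (CB2) -/
theorem cent_borel2 [CharP F 2] (x : GL chevF4.Idx F) (hx : x ∈ chevF4.borelSubgroup F)
    (hxv : x * ev A2 (c2 : ℕ → F) = ev A2 c2 * x) : x ∈ R2 F :=
  Cfsg.Agent.Helper36.F4MixAlt.cent_borel2 x hx hxv

/-- (CB1) -/
theorem cent_borel1 [CharP F 2] (x : GL chevF4.Idx F) (hx : x ∈ chevF4.borelSubgroup F)
    (hxv : x * ev A1 (c1 : ℕ → F) = ev A1 c1 * x) : x ∈ R1 F :=
  Cfsg.Agent.Helper36.F4MixAlt.cent_borel1 x hx hxv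

end Cfsg.Agent.Helper36.F4Mix
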