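import Cfsg.Agent.Helper36.F4Mix.Defs

/-!
Helper36, S2179, piece (GE): the generators of the claimed centralizers lie in the group and commute with
the involutions (`Cfsg.Agent.Helper36.RootCent.xGL_commute2`, `commPairOK2 chevF4 r s` by `decide +kernel`).
-/

set_option autoImplicit false

namespace Cfsg.Agent.Helper36.F4Mix

open Cfsg Cfsg.Lie Cfsg.Agent.Helper18

variable {F : Type*} [Field F]

/-- two root elements of the same root commute -/
theorem ge_xGL_commute_same (r : ℕ) (hr : r < chevF4.nroots) (t u : F) :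
    Commute (xGL chevF4 F r t) (xGL chevF4 F r u) := by
  show _ * _ = _ * _
  rw [Cfsg.Agent.Helper19.Poinc.xGL_mul chevF4 Cfsg.Agent.Helper36.SigmaF4.hF4 _ hr,
    Cfsg.Agent.Helper19.Poinc.xGL_mul chevF4 Cfsg.Agent.Helper36.SigmaF4.hF4 _ hr, add_comm]

/-- a generator given by its matrix is the root element -/
theorem ge_eq_xGL_of_val (g : GL chevF4.Idx F) (r : ℕ) (t : F)
    (hg : (g : Matrix chevF4.Idx chevF4.Idx F) = chevF4.x F r t) : g = xGL chevF4 F r t :=
  Units.ext (by rw [hg, xGL_val chevF4 _ (triOK_of_mem chevF4 Cfsg.Agent.Helper36.SigmaF4.hF4)])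

/-- the root subgroups lie in the group -/
theorem ge_rootSubgroup_le_group (r : ℕ) : chevF4.rootSubgroup F r ≤ chevF4.group F := by
  unfold ChevalleyDatum.rootSubgroup
  rw [Subgroup.closure_le]
  rintro g ⟨t, hg⟩
  rw [ge_eq_xGL_of_val g r t hg]
  exact Cfsg.Agent.Helper18.xGL_mem_group' chevF4 Cfsg.Agent.Helper36.SigmaF4.hF4 r t

/-- `U` lies in the group -/
theorem ge_posUnipotent_le_group : chevF4.posUnipotent F ≤ chevF4.group F := by
  unfold ChevalleyDatum.posUnipotent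
  rw [Subgroup.closure_le]
  rintro g ⟨r, t, -, hg⟩
  rw [ge_eq_xGL_of_val g r t hg]
  exact Cfsg.Agent.Helper18.xGL_mem_group' chevF4 Cfsg.Agent.Helper36.SigmaF4.hF4 r t

/-- the Boolean table for `x_47(1) x_44(1)`: positive roots -/
theorem ge_tab1_pos : ∀ r < 48, 24 ≤ r →
    (r = 44 ∨ Cfsg.Agent.Helper36.RootCent.commPairOK2 chevF4 44 r = true) ∧
      (r = 47 ∨ Cfsg.Agent.Helper36.RootCent.commPairOK2 chevF4 47 r = true) := by
  decide +kernel

/-- the Boolean table for `x_47(1) x_44(1)`: the two negative roots -/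
theorem ge_tab1_neg : ∀ r ∈ [20, 22],
    Cfsg.Agent.Helper36.RootCent.commPairOK2 chevF4 44 r = true ∧
      Cfsg.Agent.Helper36.RootCent.commPairOK2 chevF4 47 r = true := by
  decide +kernel

/-- the Boolean table for `x_39(1) x_45(1)`: positive roots -/
theorem ge_tab2_pos : ∀ r < 48, 24 ≤ r → r ∉ [27, 25, 34, 26] →
    (r = 39 ∨ Cfsg.Agent.Helper36.RootCent.commPairOK2 chevF4 39 r = true) ∧
      (r = 45 ∨ Cfsg.Agent.Helper36.RootCent.commPairOK2 chevF4 45 r = true) := by
  decide +kernel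

/-- the Boolean table for `x_39(1) x_45(1)`: the four root subgroups -/
theorem ge_tab2_neg : ∀ r ∈ [33, 14, 24, 23],
    Cfsg.Agent.Helper36.RootCent.commPairOK2 chevF4 39 r = true ∧
      Cfsg.Agent.Helper36.RootCent.commPairOK2 chevF4 45 r = true := by
  decide +kernel

/-- a root element commuting with both factors commutes with the product -/
theorem ge_xGL_commute_pair [CharP F 2] (r a b : ℕ) (ha : a < chevF4.nroots) (hb : b < chevF4.nroots)
    (h1 : r = a ∨ Cfsg.Agent.Helper36.RootCent.commPairOK2 chevF4 a r = true)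
    (h2 : r = b ∨ Cfsg.Agent.Helper36.RootCent.commPairOK2 chevF4 b r = true) (t : F) :
    xGL chevF4 F r t ∈ Subgroup.centralizer {xGL chevF4 F a 1 * xGL chevF4 F b 1} := by
  rw [Subgroup.mem_centralizer_singleton_iff]
  have c1 : Commute (xGL chevF4 F r t) (xGL chevF4 F a 1) := by
    rcases h1 with rfl | h1
    · exact ge_xGL_commute_same r ha t 1
    · exact Cfsg.Agent.Helper36.RootCent.xGL_commute2 chevF4 Cfsg.Agent.Helper36.SigmaF4.hF4 a r h1 1 t
  have c2 : Commute (xGL chevF4 F r t) (xGL chevF4 F b 1) := by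
    rcases h2 with rfl | h2
    · exact ge_xGL_commute_same r hb t 1
    · exact Cfsg.Agent.Helper36.RootCent.xGL_commute2 chevF4 Cfsg.Agent.Helper36.SigmaF4.hF4 b r h2 1 t
  exact (c1.mul_right c2).eq

/-- a root subgroup whose root commutes with both factors centralizes the product -/
theorem ge_rootSubgroup_le_centralizer [CharP F 2] (r a b : ℕ) (ha : a < chevF4.nroots)
    (hb : b < chevF4.nroots)
    (h1 : r = a ∨ Cfsg.Agent.Helper36.RootCent.commPairOK2 chevF4 a r = true)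
    (h2 : r = b ∨ Cfsg.Agent.Helper36.RootCent.commPairOK2 chevF4 b r = true) :
    chevF4.rootSubgroup F r ≤ Subgroup.centralizer {xGL chevF4 F a 1 * xGL chevF4 F b 1} := by
  unfold ChevalleyDatum.rootSubgroup
  rw [Subgroup.closure_le]
  rintro g ⟨t, hg⟩
  rw [ge_eq_xGL_of_val g r t hg]
  exact ge_xGL_commute_pair r a b ha hb h1 h2 t

/-- (GE1) -/
theorem R1_le [CharP F 2] :
    R1 F ≤ chevF4.group F ⊓ Subgroup.centralizer {ev A1 (c1 : ℕ → F)} := by
  have hF4 := Cfsg.Agent.Helper36.SigmaF4.hF4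
  have h44 : 44 < chevF4.nroots := by decide
  have h47 : 47 < chevF4.nroots := by decide
  rw [ev_c1]
  unfold R1
  refine sup_le (sup_le ?_ ?_) ?_
  · refine le_inf (ge_posUnipotent_le_group) ?_
    unfold ChevalleyDatum.posUnipotent
    rw [Subgroup.closure_le]
    rintro g ⟨r, t, hr, hg⟩
    rw [ge_eq_xGL_of_val g r t hg]
    obtain ⟨hr1, hr2⟩ := (Cfsg.Agent.Helper36.SigmaF4.isPosRoot_iff r).mp hr
    exact ge_xGL_commute_pair r 44 47 h44 h47 (ge_tab1_pos r hr2 hr1).1 (ge_tab1_pos r hr2 hr1).2 t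
  · exact le_inf (ge_rootSubgroup_le_group 20)
      (ge_rootSubgroup_le_centralizer 20 44 47 h44 h47 (Or.inr (ge_tab1_neg 20 (by simp)).1)
        (Or.inr (ge_tab1_neg 20 (by simp)).2))
  · exact le_inf (ge_rootSubgroup_le_group 22)
      (ge_rootSubgroup_le_centralizer 22 44 47 h44 h47 (Or.inr (ge_tab1_neg 22 (by simp)).1)
        (Or.inr (ge_tab1_neg 22 (by simp)).2))

/-- (GE2) -/
theorem R2_le [CharP F 2] :
    R2 F ≤ chevF4.group F ⊓ Subgroup.centralizer {ev A2 (c2 : ℕ → F)} := by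
  have hF4 := Cfsg.Agent.Helper36.SigmaF4.hF4
  have h39 : 39 < chevF4.nroots := by decide
  have h45 : 45 < chevF4.nroots := by decide
  rw [ev_c2]
  unfold R2
  refine sup_le (sup_le (sup_le (sup_le ?_ ?_) ?_) ?_) ?_
  · exact le_inf (ge_rootSubgroup_le_group 33)
      (ge_rootSubgroup_le_centralizer 33 39 45 h39 h45 (Or.inr (ge_tab2_neg 33 (by simp)).1)
        (Or.inr (ge_tab2_neg 33 (by simp)).2))
  · exact le_inf (ge_rootSubgroup_le_group 14)
      (ge_rootSubgroup_le_centralizer 14 39 45 h39 h45 (Or.inr (ge_tab2_neg 14 (by simp)).1)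
        (Or.inr (ge_tab2_neg 14 (by simp)).2))
  · exact le_inf (ge_rootSubgroup_le_group 24)
      (ge_rootSubgroup_le_centralizer 24 39 45 h39 h45 (Or.inr (ge_tab2_neg 24 (by simp)).1)
        (Or.inr (ge_tab2_neg 24 (by simp)).2))
  · exact le_inf (ge_rootSubgroup_le_group 23)
      (ge_rootSubgroup_le_centralizer 23 39 45 h39 h45 (Or.inr (ge_tab2_neg 23 (by simp)).1)
        (Or.inr (ge_tab2_neg 23 (by simp)).2))
  · rw [Subgroup.closure_le]
    rintro g ⟨r, t, hr, hrn, hg⟩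
    rw [ge_eq_xGL_of_val g r t hg]
    obtain ⟨hr1, hr2⟩ := (Cfsg.Agent.Helper36.SigmaF4.isPosRoot_iff r).mp hr
    refine ⟨Cfsg.Agent.Helper18.xGL_mem_group' chevF4 hF4 r t, ?_⟩
    exact ge_xGL_commute_pair r 39 45 h39 h45 (ge_tab2_pos r hr2 hr1 hrn).1 (ge_tab2_pos r hr2 hr1 hrn).2 t

end Cfsg.Agent.Helper36.F4Mix
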