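import Cfsg.Agent.Helper36.F4Mix.Defs
import Cfsg.Agent.Helper36.F4N

/-!
Helper36, S2179, piece (NP): two words with the same action on the roots have representatives that differ
by an element of `H`; the representatives of the words of `L8`, `L4` lie in the claimed centralizers; the
subgroup `U_n⁻` for the words of `L4`.
-/

set_option autoImplicit false

namespace Cfsg.Agent.Helper36.F4Mix

open Cfsg Cfsg.Lie Cfsg.Agent.Helper18

variable {F : Type*} [Field F]

/-- the image in the Weyl group of the representative of a word -/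
theorem NP_theta_nWords (w : List ℕ) (hw : ∀ i ∈ w, i < chevF4.rank) :
    Cfsg.Agent.Helper36.F4Class.thetaF4 (K := F)
      ⟨nWordsGL chevF4 F w, nWordsGL_mem chevF4 Cfsg.Agent.Helper36.SigmaF4.hF4 w hw⟩ =
      Cfsg.Agent.Helper19.Cox.gp Cfsg.Agent.Helper19.Poinc.certF4.M w := by
  apply Cfsg.Agent.Helper19.Twist.theta_eq_of_mk
  unfold Cfsg.Agent.Helper19.Poinc.psiC
  rw [psi_gp chevF4 Cfsg.Agent.Helper36.SigmaF4.hF4 _ _ _ _ _ _ _ w hw]

/-- (NP1) -/
theorem nWords_congr (w w' : List ℕ) (hw : ∀ i ∈ w, i < 4) (hw' : ∀ i ∈ w', i < 4)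
    (h : ∀ r < 48, rho chevF4 w r = rho chevF4 w' r) :
    ∃ t ∈ chevF4.diagonalSubgroup F, nWordsGL chevF4 F w = t * nWordsGL chevF4 F w' := by
  have hF4 := Cfsg.Agent.Helper36.SigmaF4.hF4
  have hwr : ∀ i ∈ w, i < chevF4.rank := hw
  have hwr' : ∀ i ∈ w', i < chevF4.rank := hw'
  have hm := nWordsGL_mem chevF4 hF4 (F := F) w hwr
  have hm' := nWordsGL_mem chevF4 hF4 (F := F) w' hwr'
  have e1 := NP_theta_nWords (F := F) w hwr
  have e1' := NP_theta_nWords (F := F) w' hwr'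
  have e : Cfsg.Agent.Helper19.Cox.gp Cfsg.Agent.Helper19.Poinc.certF4.M w =
      Cfsg.Agent.Helper19.Cox.gp Cfsg.Agent.Helper19.Poinc.certF4.M w' := by
    apply Cfsg.Agent.Helper19.Twist.gp_eq_of_actW Cfsg.Agent.Helper19.Poinc.certF4
    intro x hx
    rw [(actW_eq_rho chevF4 _ Cfsg.Agent.Helper19.Poinc.certF4.ht w hwr x hx).1,
      (actW_eq_rho chevF4 _ Cfsg.Agent.Helper19.Poinc.certF4.ht w' hwr' x hx).1]
    exact h x hx
  refine ⟨nWordsGL chevF4 F w * (nWordsGL chevF4 F w')⁻¹, ?_, by group⟩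
  have h1 : Cfsg.Agent.Helper36.F4Class.thetaF4 (K := F)
      (⟨nWordsGL chevF4 F w, hm⟩ *
        (⟨nWordsGL chevF4 F w', hm'⟩ : ↥(chevF4.monomialSubgroup F))⁻¹) = 1 := by
    rw [map_mul, map_inv, e1, e1', e, mul_inv_cancel]
  exact (Cfsg.Agent.Helper19.Twist.theta_eq_one_iff chevF4 hF4 _ _ _).mp h1

/-- a root element lies in its root subgroup -/
theorem NP_xGL_mem (r : ℕ) (t : F) : xGL chevF4 F r t ∈ chevF4.rootSubgroup F r :=
  Subgroup.subset_closure
    ⟨t, xGL_val chevF4 _ (triOK_of_mem chevF4 Cfsg.Agent.Helper36.SigmaF4.hF4) r t⟩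

/-- a root subgroup of a positive root lies in `U` -/
theorem NP_rootSubgroup_le_pos (r : ℕ) (hr : chevF4.IsPosRoot r) :
    chevF4.rootSubgroup F r ≤ chevF4.posUnipotent F := by
  unfold ChevalleyDatum.rootSubgroup ChevalleyDatum.posUnipotent
  apply Subgroup.closure_mono
  rintro g ⟨t, hg⟩
  exact ⟨r, t, hr, hg⟩

theorem NP_isPos (r : ℕ) (h1 : 24 ≤ r) (h2 : r < 48) : chevF4.IsPosRoot r :=
  (isPosRoot_iff chevF4 _ (posOK_of_mem chevF4 Cfsg.Agent.Helper36.SigmaF4.hF4) r).mpr ⟨h1, h2⟩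

/-- the representative `n_p = x_p(1) x_{-p}(-1) x_p(1)` lies in a subgroup containing the two root
subgroups -/
theorem NP_n_mem (K : Subgroup (GL chevF4.Idx F)) (i : ℕ)
    (h1 : chevF4.rootSubgroup F (chevF4.simple i) ≤ K)
    (h2 : chevF4.rootSubgroup F (chevF4.neg (chevF4.simple i)) ≤ K) :
    wordGL chevF4 F (chevF4.nWord (chevF4.simple i) (1 : F)) ∈ K := by
  rw [wordGL_nWord']
  exact K.mul_mem (K.mul_mem (h1 (NP_xGL_mem _ _)) (h2 (NP_xGL_mem _ _))) (h1 (NP_xGL_mem _ _))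

theorem NP_L8_mem : ∀ c ∈ L8, ∀ i ∈ c, i = 1 ∨ i = 2 := by decide

theorem NP_L4_mem : ∀ c ∈ L4, ∀ i ∈ c, i = 0 ∨ i = 3 := by decide

/-- (NP2) -/
theorem nWords_mem1 (c : List ℕ) (hc : c ∈ L8) : nWordsGL chevF4 F c ∈ R1 F := by
  unfold nWordsGL
  apply Subgroup.list_prod_mem
  intro g hg
  obtain ⟨i, hi, rfl⟩ := List.mem_map.mp hg
  have hU : chevF4.posUnipotent F ≤ R1 F := le_sup_of_le_left le_sup_left
  have h20 : chevF4.rootSubgroup F 20 ≤ R1 F := le_sup_of_le_left le_sup_right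
  have h22 : chevF4.rootSubgroup F 22 ≤ R1 F := le_sup_right
  rcases NP_L8_mem c hc i hi with rfl | rfl
  · apply NP_n_mem
    · have e : chevF4.simple 1 = 27 := by decide
      rw [e]
      exact (NP_rootSubgroup_le_pos 27 (NP_isPos 27 (by norm_num) (by norm_num))).trans hU
    · have e : chevF4.neg (chevF4.simple 1) = 20 := by decide
      rw [e]
      exact h20
  · apply NP_n_mem
    · have e : chevF4.simple 2 = 25 := by decide
      rw [e]
      exact (NP_rootSubgroup_le_pos 25 (NP_isPos 25 (by norm_num) (by norm_num))).trans hU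
    · have e : chevF4.neg (chevF4.simple 2) = 22 := by decide
      rw [e]
      exact h22

/-- (NP3) -/
theorem nWords_mem2 (c : List ℕ) (hc : c ∈ L4) : nWordsGL chevF4 F c ∈ R2 F := by
  unfold nWordsGL
  apply Subgroup.list_prod_mem
  intro g hg
  obtain ⟨i, hi, rfl⟩ := List.mem_map.mp hg
  have h33 : chevF4.rootSubgroup F 33 ≤ R2 F :=
    le_sup_of_le_left (le_sup_of_le_left (le_sup_of_le_left le_sup_left))
  have h14 : chevF4.rootSubgroup F 14 ≤ R2 F :=
    le_sup_of_le_left (le_sup_of_le_left (le_sup_of_le_left le_sup_right))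
  have h24 : chevF4.rootSubgroup F 24 ≤ R2 F :=
    le_sup_of_le_left (le_sup_of_le_left le_sup_right)
  have h23 : chevF4.rootSubgroup F 23 ≤ R2 F := le_sup_of_le_left le_sup_right
  rcases NP_L4_mem c hc i hi with rfl | rfl
  · apply NP_n_mem
    · have e : chevF4.simple 0 = 33 := by decide
      rw [e]
      exact h33
    · have e : chevF4.neg (chevF4.simple 0) = 14 := by decide
      rw [e]
      exact h14
  · apply NP_n_mem
    · have e : chevF4.simple 3 = 24 := by decide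
      rw [e]
      exact h24
    · have e : chevF4.neg (chevF4.simple 3) = 23 := by decide
      rw [e]
      exact h23

set_option maxRecDepth 100000 in
theorem NP_L4_neg : ∀ c ∈ L4, ∀ r < 48, 24 ≤ r →
    ¬ (24 ≤ rho chevF4 c r ∧ rho chevF4 c r < 48) → r = 33 ∨ r = 24 := by decide +kernel

/-- (NP4) `U_n⁻ ≤ X_{p₁} X_{p₄}` for the words acting as an element of `⟨s_{p₁}, s_{p₄}⟩` -/
theorem bruU_le2 (word : List ℕ) (hw : ∀ i ∈ word, i < 4) (c : List ℕ) (hc : c ∈ L4)
    (h : ∀ r < 48, rho chevF4 word r = rho chevF4 c r) :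
    bruU (nWordsGL chevF4 F word) ≤ chevF4.rootSubgroup F 33 ⊔ chevF4.rootSubgroup F 24 := by
  have hF4 := Cfsg.Agent.Helper36.SigmaF4.hF4
  unfold bruU
  rw [Subgroup.closure_le]
  rintro x ⟨r, t, hr, hle, hx⟩
  have hr' := (isPosRoot_iff chevF4 _ (posOK_of_mem chevF4 hF4) r).mp hr
  have hr48 : r < 48 := hr'.2
  have hr24 : 24 ≤ r := hr'.1
  have hconj := Cfsg.Agent.Helper36.HighRoot.rootSubgroup_conj_word (F := F) chevF4 hF4 word hw r hr48
  rw [hconj, h r hr48] at hle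
  have hnp : ¬ (24 ≤ rho chevF4 c r ∧ rho chevF4 c r < 48) := by
    rintro ⟨h1, h2⟩
    have hpos := NP_isPos _ h1 h2
    have hmem : xGL chevF4 F (rho chevF4 c r) 1 ∈ chevF4.posUnipotent F ⊓ chevF4.negUnipotent F :=
      Subgroup.mem_inf.mpr ⟨NP_rootSubgroup_le_pos _ hpos (NP_xGL_mem _ _), hle (NP_xGL_mem _ _)⟩
    rw [Cfsg.Agent.Helper36.LeviBruhat.pos_inf_neg chevF4 hF4, Subgroup.mem_bot] at hmem
    have h3 := congrArg (fun g : GL chevF4.Idx F => (g : Matrix chevF4.Idx chevF4.Idx F)) hmem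
    simp only [xGL_val chevF4 _ (triOK_of_mem chevF4 hF4), Units.val_one] at h3
    exact one_ne_zero ((Cfsg.Agent.S1024.result chevF4 hF4 _ h2 (1 : F)).mp h3)
  have hxe : x = xGL chevF4 F r t := by
    apply Units.ext
    rw [hx, xGL_val chevF4 _ (triOK_of_mem chevF4 hF4)]
  rw [hxe]
  rcases NP_L4_neg c hc r hr48 hr24 hnp with rfl | rfl
  · exact Subgroup.mem_sup_left (NP_xGL_mem _ _)
  · exact Subgroup.mem_sup_right (NP_xGL_mem _ _)

end Cfsg.Agent.Helper36.F4Mix
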