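import Cfsg.Agent.Helper36.F4Mix.P_BC
import Cfsg.Agent.Helper36.F4Mix.P_WC
import Cfsg.Agent.Helper36.F4Mix.P_NP
import Cfsg.Agent.Helper36.F4Mix.P_BS
import Cfsg.Agent.Helper36.F4Mix.P_CB
import Cfsg.Agent.Helper36.F4Mix.P_GE
import Cfsg.Agent.Helper36.BruhatUnique

/-!
Helper36, S2179: assembly of the pieces.
-/

set_option autoImplicit false

namespace Cfsg.Agent.Helper36.F4Mix

open Cfsg Cfsg.Lie Cfsg.Agent.Helper18

variable {F : Type*} [Field F]

theorem pos_A1 : ∀ r ∈ A1, chevF4.IsPosRoot r := by decide +kernel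
theorem pos_A2 : ∀ r ∈ A2, chevF4.IsPosRoot r := by decide +kernel

theorem L8_lt : ∀ c ∈ L8, ∀ i ∈ c, i < 4 := by decide
theorem L4_lt : ∀ c ∈ L4, ∀ i ∈ c, i < 4 := by decide

theorem commute_of_mem_le {K : Subgroup (GL chevF4.Idx F)} {v : GL chevF4.Idx F}
    (hK : K ≤ chevF4.group F ⊓ Subgroup.centralizer {v}) {y : GL chevF4.Idx F} (hy : y ∈ K) :
    y * v = v * y := by
  have := (Subgroup.mem_inf.mp (hK hy)).2
  rw [Subgroup.mem_centralizer_iff] at this
  exact (this v (Set.mem_singleton v)).symm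

/-- the common end of the two arguments -/
theorem assemble {R : Subgroup (GL chevF4.Idx F)} {v : GL chevF4.Idx F}
    (hR : R ≤ chevF4.group F ⊓ Subgroup.centralizer {v})
    (hCB : ∀ x ∈ chevF4.borelSubgroup F, x * v = v * x → x ∈ R)
    (x : GL chevF4.Idx F) (hx : x ∈ chevF4.borelSubgroup F) (t : GL chevF4.Idx F)
    (ht : t ∈ chevF4.diagonalSubgroup F) (n u : GL chevF4.Idx F) (hn : n ∈ R) (hu : u ∈ R)
    (hgv : (x * (t * n) * u) * v = v * (x * (t * n) * u)) : x * (t * n) * u ∈ R := by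
  have hnv := commute_of_mem_le hR hn
  have huv := commute_of_mem_le hR hu
  have hxt : x * t ∈ chevF4.borelSubgroup F :=
    Subgroup.mul_mem _ hx (Subgroup.mem_sup_right ht)
  have hxtv : (x * t) * v = v * (x * t) := by
    have e1 : x * t = (x * (t * n) * u) * u⁻¹ * n⁻¹ := by group
    have hu' : Commute u⁻¹ v := Commute.inv_left (show Commute u v from huv)
    have hn' : Commute n⁻¹ v := Commute.inv_left (show Commute n v from hnv)
    have hg' : Commute (x * (t * n) * u) v := hgv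
    rw [e1]
    exact ((hg'.mul_left hu').mul_left hn').eq
  have h1 := hCB _ hxt hxtv
  have e : x * (t * n) * u = (x * t) * n * u := by group
  rw [e]
  exact Subgroup.mul_mem _ (Subgroup.mul_mem _ h1 hn) hu

section Char2

variable [CharP F 2]

theorem cent1_le (g : GL chevF4.Idx F) (hg : g ∈ chevF4.group F)
    (hgv : g * ev A1 (c1 : ℕ → F) = ev A1 c1 * g) : g ∈ R1 F := by
  obtain ⟨x, hx, word, hw, u, hu, rfl, h47, h44⟩ :=
    bruhat_commute A1 (by decide) pos_A1 comm_A1 47 44 (by decide) (by decide)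
      borel_stable1 c1 (by simp [c1]) (by simp [c1]) g hg hgv
  obtain ⟨c, hc, hrho⟩ := weyl_class1 word hw h47 h44
  obtain ⟨t, ht, hn⟩ := nWords_congr (F := F) word c hw (L8_lt c hc) hrho
  have huR : u ∈ R1 F :=
    Subgroup.mem_sup_left (Subgroup.mem_sup_left (Cfsg.Agent.Helper36.bruhatU_le_pos chevF4 _ hu))
  rw [hn] at hgv ⊢
  exact assemble R1_le (fun x hx h => cent_borel1 x hx h) x hx t ht _ u (nWords_mem1 c hc) huR hgv

theorem cent2_le (g : GL chevF4.Idx F) (hg : g ∈ chevF4.group F)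
    (hgv : g * ev A2 (c2 : ℕ → F) = ev A2 c2 * g) : g ∈ R2 F := by
  obtain ⟨x, hx, word, hw, u, hu, rfl, h39, h45⟩ :=
    bruhat_commute A2 (by decide) pos_A2 comm_A2 39 45 (by decide) (by decide)
      borel_stable2 c2 (by simp [c2]) (by simp [c2]) g hg hgv
  obtain ⟨c, hc, hrho⟩ := weyl_class2 word hw h39 h45
  obtain ⟨t, ht, hn⟩ := nWords_congr (F := F) word c hw (L4_lt c hc) hrho
  have huR : u ∈ R2 F := by
    have h1 := bruU_le2 (F := F) word hw c hc hrho hu
    have h2 : chevF4.rootSubgroup F 33 ⊔ chevF4.rootSubgroup F 24 ≤ R2 F := by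
      unfold R2
      apply sup_le
      · exact le_sup_of_le_left (le_sup_of_le_left (le_sup_of_le_left le_sup_left))
      · exact le_sup_of_le_left (le_sup_of_le_left le_sup_right)
    exact h2 h1
  rw [hn] at hgv ⊢
  exact assemble R2_le (fun x hx h => cent_borel2 x hx h) x hx t ht _ u (nWords_mem2 c hc) huR hgv

/-- the two centralizers -/
theorem main (w v : GL chevF4.Idx F)
    (hw : (w : Matrix chevF4.Idx chevF4.Idx F) = chevF4.x F 47 1 * chevF4.x F 44 1)
    (hv : (v : Matrix chevF4.Idx chevF4.Idx F) = chevF4.x F 39 1 * chevF4.x F 45 1) :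
    chevF4.group F ⊓ Subgroup.centralizer {w} = R1 F ∧
    chevF4.group F ⊓ Subgroup.centralizer {v} = R2 F := by
  have htri := triOK_of_mem chevF4 Cfsg.Agent.Helper36.SigmaF4.hF4
  have ew : w = ev A1 (c1 : ℕ → F) := by
    rw [ev_c1, (comm_A1 44 (by decide) 47 (by decide) (1 : F) 1).eq]
    apply Units.ext
    rw [hw, Units.val_mul, xGL_val chevF4 _ htri, xGL_val chevF4 _ htri]
  have ev' : v = ev A2 (c2 : ℕ → F) := by
    rw [ev_c2]
    apply Units.ext
    rw [hv, Units.val_mul, xGL_val chevF4 _ htri, xGL_val chevF4 _ htri]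
  constructor
  · apply le_antisymm
    · intro g hg
      obtain ⟨hgG, hgC⟩ := Subgroup.mem_inf.mp hg
      rw [Subgroup.mem_centralizer_iff] at hgC
      have := (hgC w (Set.mem_singleton w)).symm
      rw [ew] at this
      exact cent1_le g hgG this
    · rw [ew]; exact R1_le
  · apply le_antisymm
    · intro g hg
      obtain ⟨hgG, hgC⟩ := Subgroup.mem_inf.mp hg
      rw [Subgroup.mem_centralizer_iff] at hgC
      have := (hgC v (Set.mem_singleton v)).symm
      rw [ev'] at this
      exact cent2_le g hgG this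
    · rw [ev']; exact R2_le

end Char2

end Cfsg.Agent.Helper36.F4Mix
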