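import Cfsg.Agent.Helper36.F4Mix.Defs
import Cfsg.Agent.S1023
import Cfsg.Agent.S1025

/-!
Helper36, S2179, piece (EV): conjugation of `ev A2 c` and `ev A1 c` by the positive root elements, in
characteristic two.  `A2 = [39, 40, 44, 45, 46, 47]`; the only non-commuting pairs `(s, r)`, `s > 0`,
`r ∈ A2` are `27 + 39 = 40`, `33 + 40 = 44`, `34 + 39 = 44`, `25 + 45 = 46`, `26 + 45 = 47`, `24 + 46 = 47`
(all the other sums are not roots, or have an even structure constant); the roots of `A1 = [44, 47]`
commute with all positive roots.  Tools: `Cfsg.Agent.Helper36.RootCent.xGL_commute2` with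
`commPairOK2 chevF4 r s` by `decide +kernel`, and the commutator formula S1025 for the six pairs.
-/

set_option autoImplicit false

namespace Cfsg.Agent.Helper36.F4Mix

open Cfsg Cfsg.Lie Cfsg.Agent.Helper18

variable {F : Type*} [Field F]

/-- the action of `x_s(t)` on the coefficients of `ev A2 c` -/
def act2 (s : ℕ) (t : F) (c : ℕ → F) : ℕ → F :=
  if s = 27 then Function.update c 40 (c 40 + t * c 39)
  else if s = 33 then Function.update c 44 (c 44 + t * c 40)
  else if s = 34 then Function.update c 44 (c 44 + t * c 39)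
  else if s = 25 then Function.update c 46 (c 46 + t * c 45)
  else if s = 26 then Function.update c 47 (c 47 + t * c 45)
  else if s = 24 then Function.update c 47 (c 47 + t * c 46)
  else c

/-! ### auxiliary lemmas of piece (EV) (all names prefixed `EV_`) -/

theorem EV_hF4 : chevF4 ∈ [chevG2, chevB2, chevD4, chevF4, chevE6, chevE7, chevE8] :=
  Cfsg.Agent.Helper36.SigmaF4.hF4

theorem EV_nroots : chevF4.nroots = 48 := by decide

theorem EV_add (r : ℕ) (hr : r < 48) (a b : F) :
    xGL chevF4 F r (a + b) = xGL chevF4 F r a * xGL chevF4 F r b := by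
  have htri := triOK_of_mem chevF4 EV_hF4
  apply Units.ext
  rw [Units.val_mul, xGL_val _ _ htri, xGL_val _ _ htri, xGL_val _ _ htri,
    Cfsg.Agent.S1023.result chevF4 EV_hF4 r (by rw [EV_nroots]; exact hr) a b]

theorem EV_comm_same (r : ℕ) (hr : r < 48) (a b : F) :
    Commute (xGL chevF4 F r a) (xGL chevF4 F r b) := by
  show _ * _ = _ * _
  rw [← EV_add r hr, ← EV_add r hr, add_comm]

/-- an element commuting with all the factors commutes with `ev A c` -/
theorem EV_commute_ev (g : GL chevF4.Idx F) (A : List ℕ) (c : ℕ → F)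
    (h : ∀ r ∈ A, Commute g (xGL chevF4 F r (c r))) : Commute g (ev A c) := by
  induction A with
  | nil => rw [ev_nil]; exact Commute.one_right g
  | cons r A ih =>
    rw [ev_cons]
    exact (h r List.mem_cons_self).mul_right (ih fun s hs => h s (List.mem_cons_of_mem _ hs))

theorem EV_congr (A : List ℕ) (c c' : ℕ → F) (h : ∀ r ∈ A, c r = c' r) : ev A c = ev A c' := by
  induction A with
  | nil => rw [ev_nil, ev_nil]
  | cons r A ih =>
    rw [ev_cons, ev_cons, h r List.mem_cons_self, ih fun s hs => h s (List.mem_cons_of_mem _ hs)]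

/-- adding `d` to the coefficient of `r1` multiplies `ev A c` by `x_{r1}(d)` -/
theorem EV_update (A : List ℕ) (hA : A.Nodup) (c : ℕ → F) (r1 : ℕ) (hr1 : r1 ∈ A) (hlt : r1 < 48) (d : F)
    (hcomm : ∀ s ∈ A, ∀ b : F, Commute (xGL chevF4 F r1 d) (xGL chevF4 F s b)) :
    ev A (Function.update c r1 (c r1 + d)) = ev A c * xGL chevF4 F r1 d := by
  induction A with
  | nil => cases hr1
  | cons r A ih =>
    rw [ev_cons, ev_cons]
    have hA' := List.nodup_cons.mp hA
    by_cases hr : r = r1
    · subst hr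
      rw [Function.update_self, EV_add r hlt,
        EV_congr A (Function.update c r (c r + d)) c (fun s hs => by
          rw [Function.update_of_ne]
          rintro rfl
          exact hA'.1 hs)]
      have hc : Commute (xGL chevF4 F r d) (ev A c) :=
        EV_commute_ev _ A c fun s hs => hcomm s (List.mem_cons_of_mem _ hs) (c s)
      rw [mul_assoc, hc.eq, mul_assoc]
    · have hr1' : r1 ∈ A := by
        rcases List.mem_cons.mp hr1 with h | h
        · exact absurd h.symm hr
        · exact h
      rw [Function.update_of_ne hr, ih hA'.2 hr1' fun s hs b => hcomm s (List.mem_cons_of_mem _ hs) b,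
        mul_assoc]

/-- moving `g` through `ev A c`, when `g` commutes with all root subgroups of `A` except `X_{r0}` -/
theorem EV_move (g : GL chevF4.Idx F) (y : F → GL chevF4.Idx F) (A : List ℕ) (hA : A.Nodup) (r0 : ℕ)
    (hr0 : r0 ∈ A) (c : ℕ → F)
    (h1 : ∀ r ∈ A, r ≠ r0 → ∀ a : F, Commute g (xGL chevF4 F r a))
    (h2 : ∀ a : F, g * xGL chevF4 F r0 a = xGL chevF4 F r0 a * g * y a)
    (h3 : ∀ r ∈ A, ∀ a b : F, Commute (y a) (xGL chevF4 F r b)) :
    g * ev A c = ev A c * g * y (c r0) := by
  induction A with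
  | nil => cases hr0
  | cons r A ih =>
    rw [ev_cons]
    have hA' := List.nodup_cons.mp hA
    by_cases hr : r = r0
    · subst hr
      have hy : Commute (y (c r)) (ev A c) :=
        EV_commute_ev _ A c fun s hs => h3 s (List.mem_cons_of_mem _ hs) _ _
      have hg : Commute g (ev A c) :=
        EV_commute_ev _ A c fun s hs => h1 s (List.mem_cons_of_mem _ hs) (by
          rintro rfl
          exact hA'.1 hs) _
      calc g * (xGL chevF4 F r (c r) * ev A c) = (g * xGL chevF4 F r (c r)) * ev A c := by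
            rw [mul_assoc]
        _ = xGL chevF4 F r (c r) * g * (y (c r) * ev A c) := by rw [h2, mul_assoc]
        _ = xGL chevF4 F r (c r) * g * (ev A c * y (c r)) := by rw [hy.eq]
        _ = xGL chevF4 F r (c r) * (g * ev A c) * y (c r) := by simp only [mul_assoc]
        _ = xGL chevF4 F r (c r) * (ev A c * g) * y (c r) := by rw [hg.eq]
        _ = _ := by simp only [mul_assoc]
    · have hr0' : r0 ∈ A := by
        rcases List.mem_cons.mp hr0 with h | h
        · exact absurd h.symm hr
        · exact h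
      have hg : Commute g (xGL chevF4 F r (c r)) := h1 r List.mem_cons_self hr _
      calc g * (xGL chevF4 F r (c r) * ev A c) = (g * xGL chevF4 F r (c r)) * ev A c := by
            rw [mul_assoc]
        _ = xGL chevF4 F r (c r) * (g * ev A c) := by rw [hg.eq, mul_assoc]
        _ = xGL chevF4 F r (c r) * (ev A c * g * y (c r0)) := by
            rw [ih hA'.2 hr0' (fun s hs => h1 s (List.mem_cons_of_mem _ hs))
              (fun s hs => h3 s (List.mem_cons_of_mem _ hs))]
        _ = _ := by simp only [mul_assoc]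

/-- the commutator formula for a pair with a single term of coefficient `±1`, in characteristic two -/
theorem EV_bad [CharP F 2] (s r0 r1 : ℕ)
    (h : chevF4.commTerms r0 s = [(r1, 1, 1, 1)] ∨ chevF4.commTerms r0 s = [(r1, -1, 1, 1)])
    (hr0 : r0 < 48) (hs : s < 48) (hsr : s ≠ r0) (hsn : s ≠ chevF4.neg r0) (t a : F) :
    xGL chevF4 F s t * xGL chevF4 F r0 a =
      xGL chevF4 F r0 a * xGL chevF4 F s t * xGL chevF4 F r1 (t * a) := by
  have htri := triOK_of_mem chevF4 EV_hF4
  apply Units.ext
  rw [Units.val_mul, Units.val_mul, Units.val_mul, xGL_val _ _ htri, xGL_val _ _ htri, xGL_val _ _ htri,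
    Cfsg.Agent.S1025.result chevF4 EV_hF4 r0 s (by rw [EV_nroots]; exact hr0) (by rw [EV_nroots]; exact hs)
      hsr hsn a t]
  congr 1
  unfold ChevalleyDatum.commWord ChevalleyDatum.wordMat
  have hneg : (-a : F) = a := CharTwo.neg_eq a
  rcases h with h | h
  · rw [h]
    simp only [List.map_cons, List.map_nil, List.prod_cons, List.prod_nil, mul_one, pow_one, Int.cast_one,
      one_mul, hneg]
    rw [mul_comm]
  · rw [h]
    simp only [List.map_cons, List.map_nil, List.prod_cons, List.prod_nil, mul_one, pow_one, Int.cast_neg,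
      Int.cast_one, neg_mul, one_mul, mul_neg, neg_neg]
    rw [mul_comm]

/-! ### the Boolean tables -/

/-- distinct roots of `A2` commute -/
def EV_tabA2 : Bool :=
  A2.all fun r => A2.all fun s => (r == s) || Cfsg.Agent.Helper36.RootCent.commPairOK2 chevF4 r s

theorem EV_tabA2_ok : EV_tabA2 = true := by decide +kernel

/-- the roots of `A1` commute with all other positive roots -/
def EV_tabA1 : Bool :=
  (List.range' 24 24).all fun s => A1.all fun r =>
    (r == s) || Cfsg.Agent.Helper36.RootCent.commPairOK2 chevF4 r s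

theorem EV_tabA1_ok : EV_tabA1 = true := by decide +kernel

/-- the six non-commuting pairs: `(s, r0, r1)` with `s + r0 = r1` -/
def EV_special : List (ℕ × ℕ × ℕ) :=
  [(27, 39, 40), (33, 40, 44), (34, 39, 44), (25, 45, 46), (26, 45, 47), (24, 46, 47)]

/-- the positive roots outside the six special ones commute with `A2` -/
def EV_tabGeneric : Bool :=
  (List.range' 24 24).all fun s => (EV_special.any fun p => p.1 == s) ||
    A2.all fun r => (r == s) || Cfsg.Agent.Helper36.RootCent.commPairOK2 chevF4 r s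

theorem EV_tabGeneric_ok : EV_tabGeneric = true := by decide +kernel

/-- the six special pairs -/
def EV_tabSpecial : Bool :=
  EV_special.all fun p =>
    (decide (chevF4.commTerms p.2.1 p.1 = [(p.2.2, 1, 1, 1)]) ||
      decide (chevF4.commTerms p.2.1 p.1 = [(p.2.2, -1, 1, 1)])) &&
    decide (p.1 ≠ chevF4.neg p.2.1) &&
    A2.all fun r => (r == p.2.1) || Cfsg.Agent.Helper36.RootCent.commPairOK2 chevF4 r p.1

theorem EV_tabSpecial_ok : EV_tabSpecial = true := by decide +kernel

theorem EV_special_basic : ∀ p ∈ EV_special,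
    p.2.1 ∈ A2 ∧ p.2.2 ∈ A2 ∧ p.2.2 ≠ p.2.1 ∧ p.1 < 48 ∧ p.1 ≠ p.2.1 ∧ p.2.1 < 48 ∧ p.2.2 < 48 := by
  decide

theorem EV_special_fst : ∀ p ∈ EV_special, p.1 ∈ [24, 25, 26, 27, 33, 34] := by decide

theorem EV_A2_lt : ∀ r ∈ A2, r < 48 := by decide

theorem EV_A1_lt : ∀ r ∈ A1, r < 48 := by decide

theorem EV_A2_nodup : A2.Nodup := by decide

/-- (EV0) the root subgroups of `A2` commute -/
theorem comm_A2 [CharP F 2] : ∀ r ∈ A2, ∀ s ∈ A2, ∀ a b : F,
    Commute (xGL chevF4 F r a) (xGL chevF4 F s b) := by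
  intro r hr s hs a b
  have h := EV_tabA2_ok
  unfold EV_tabA2 at h
  rw [List.all_eq_true] at h
  have h1 := h r hr
  rw [List.all_eq_true] at h1
  have h2 := h1 s hs
  rw [Bool.or_eq_true, beq_iff_eq] at h2
  rcases h2 with rfl | h2
  · exact EV_comm_same r (EV_A2_lt r hr) a b
  · exact (Cfsg.Agent.Helper36.RootCent.xGL_commute2 chevF4 EV_hF4 r s h2 a b).symm

/-- (EV0') the root subgroups of `A1` commute -/
theorem comm_A1 [CharP F 2] : ∀ r ∈ A1, ∀ s ∈ A1, ∀ a b : F,
    Commute (xGL chevF4 F r a) (xGL chevF4 F s b) := by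
  have hsub : ∀ r ∈ A1, r ∈ A2 := by decide
  intro r hr s hs a b
  exact comm_A2 r (hsub r hr) s (hsub s hs) a b

/-- the special case of (EV2) -/
theorem EV_conj_special [CharP F 2] (p : ℕ × ℕ × ℕ) (hp : p ∈ EV_special) (t : F) (c : ℕ → F) :
    xGL chevF4 F p.1 t * ev A2 c =
      ev A2 (Function.update c p.2.2 (c p.2.2 + t * c p.2.1)) * xGL chevF4 F p.1 t := by
  obtain ⟨hr0, hr1, hne, hs, hsr, hr0lt, hr1lt⟩ := EV_special_basic p hp
  have h := EV_tabSpecial_ok
  unfold EV_tabSpecial at h
  rw [List.all_eq_true] at h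
  have h1 := h p hp
  simp only [Bool.and_eq_true, Bool.or_eq_true, decide_eq_true_eq, List.all_eq_true, beq_iff_eq] at h1
  obtain ⟨⟨hterms, hsn⟩, hcomm⟩ := h1
  -- `x_s(t)` commutes with the root subgroups of `A2` other than `X_{r0}`
  have hc1 : ∀ r ∈ A2, r ≠ p.2.1 → ∀ a : F, Commute (xGL chevF4 F p.1 t) (xGL chevF4 F r a) := by
    intro r hr hne' a
    rcases hcomm r hr with h2 | h2
    · exact absurd h2 hne'
    · exact Cfsg.Agent.Helper36.RootCent.xGL_commute2 chevF4 EV_hF4 r p.1 h2 a t
  have hmove : xGL chevF4 F p.1 t * ev A2 c =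
      ev A2 c * xGL chevF4 F p.1 t * xGL chevF4 F p.2.2 (t * c p.2.1) :=
    EV_move (xGL chevF4 F p.1 t) (fun a => xGL chevF4 F p.2.2 (t * a)) A2 EV_A2_nodup p.2.1 hr0 c
      hc1 (fun a => EV_bad p.1 p.2.1 p.2.2 hterms hr0lt hs hsr hsn t a)
      (fun r hr a b => comm_A2 p.2.2 hr1 r hr _ _)
  rw [hmove, EV_update A2 EV_A2_nodup c p.2.2 hr1 hr1lt (t * c p.2.1)
    (fun s hs' b => comm_A2 p.2.2 hr1 s hs' _ _)]
  have hg : Commute (xGL chevF4 F p.1 t) (xGL chevF4 F p.2.2 (t * c p.2.1)) := hc1 p.2.2 hr1 hne _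
  rw [mul_assoc, hg.eq, mul_assoc]

/-- (EV2) -/
theorem ev_conj2 [CharP F 2] (s : ℕ) (hs : chevF4.IsPosRoot s) (t : F) (c : ℕ → F) :
    xGL chevF4 F s t * ev A2 c = ev A2 (act2 s t c) * xGL chevF4 F s t := by
  have hs' := (isPosRoot_iff chevF4 _ (posOK_of_mem chevF4 EV_hF4) s).mp hs
  have hs1 : 24 ≤ s := hs'.1
  have hs2 : s < 48 := by have := hs'.2; rwa [EV_nroots] at this
  by_cases hsp : s ∈ [24, 25, 26, 27, 33, 34]
  · simp only [List.mem_cons, List.not_mem_nil, or_false] at hsp
    rcases hsp with rfl | rfl | rfl | rfl | rfl | rfl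
    · have := EV_conj_special (F := F) (24, 46, 47) (by decide) t c
      simpa [act2] using this
    · have := EV_conj_special (F := F) (25, 45, 46) (by decide) t c
      simpa [act2] using this
    · have := EV_conj_special (F := F) (26, 45, 47) (by decide) t c
      simpa [act2] using this
    · have := EV_conj_special (F := F) (27, 39, 40) (by decide) t c
      simpa [act2] using this
    · have := EV_conj_special (F := F) (33, 40, 44) (by decide) t c
      simpa [act2] using this
    · have := EV_conj_special (F := F) (34, 39, 44) (by decide) t c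
      simpa [act2] using this
  · have hact : act2 s t c = c := by
      simp only [List.mem_cons, List.not_mem_nil, or_false, not_or] at hsp
      obtain ⟨h24, h25, h26, h27, h33, h34⟩ := hsp
      unfold act2
      rw [if_neg h27, if_neg h33, if_neg h34, if_neg h25, if_neg h26, if_neg h24]
    rw [hact]
    have h := EV_tabGeneric_ok
    unfold EV_tabGeneric at h
    rw [List.all_eq_true] at h
    have h1 := h s (List.mem_range'_1.mpr ⟨hs1, by omega⟩)
    rw [Bool.or_eq_true] at h1
    rcases h1 with h1 | h1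
    · exfalso
      rw [List.any_eq_true] at h1
      obtain ⟨p, hp, hps⟩ := h1
      rw [beq_iff_eq] at hps
      exact hsp (hps ▸ EV_special_fst p hp)
    · rw [List.all_eq_true] at h1
      refine (EV_commute_ev _ A2 c fun r hr => ?_).eq
      have h2 := h1 r hr
      rw [Bool.or_eq_true, beq_iff_eq] at h2
      rcases h2 with rfl | h2
      · exact EV_comm_same r hs2 _ _
      · exact Cfsg.Agent.Helper36.RootCent.xGL_commute2 chevF4 EV_hF4 r s h2 _ t

/-- (EV1) -/
theorem ev_conj1 [CharP F 2] (s : ℕ) (hs : chevF4.IsPosRoot s) (t : F) (c : ℕ → F) :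
    xGL chevF4 F s t * ev A1 c = ev A1 c * xGL chevF4 F s t := by
  have hs' := (isPosRoot_iff chevF4 _ (posOK_of_mem chevF4 EV_hF4) s).mp hs
  have hs1 : 24 ≤ s := hs'.1
  have hs2 : s < 48 := by have := hs'.2; rwa [EV_nroots] at this
  have h := EV_tabA1_ok
  unfold EV_tabA1 at h
  rw [List.all_eq_true] at h
  have h1 := h s (List.mem_range'_1.mpr ⟨hs1, by omega⟩)
  rw [List.all_eq_true] at h1
  refine (EV_commute_ev _ A1 c fun r hr => ?_).eq
  have h2 := h1 r hr
  rw [Bool.or_eq_true, beq_iff_eq] at h2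
  rcases h2 with rfl | h2
  · exact EV_comm_same r hs2 _ _
  · exact Cfsg.Agent.Helper36.RootCent.xGL_commute2 chevF4 EV_hF4 r s h2 _ t

end Cfsg.Agent.Helper36.F4Mix
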