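import Cfsg.Agent.Helper36.F4Mix.Defs
import Cfsg.Agent.Helper40.UFinal
import Cfsg.Agent.Helper40.UDataAll

/-!
Helper36, S2179, piece (PU): a product of pairwise commuting root elements for distinct roots, the roots
with a non-zero coefficient being positive, is the standard ordered product with the same coefficients;
so the coefficients are determined by the product.
-/

set_option autoImplicit false

namespace Cfsg.Agent.Helper36.F4Mix

open Cfsg Cfsg.Lie Cfsg.Agent.Helper18

variable {F : Type*} [Field F]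

/-- the value of a root element of `F₄` -/
theorem PU_xGL_val (r : ℕ) (a : F) :
    ((xGL chevF4 F r a : GL chevF4.Idx F) : Matrix chevF4.Idx chevF4.Idx F) = chevF4.x F r a :=
  xGL_val chevF4 _ (triOK_of_mem chevF4 Cfsg.Agent.Helper36.SigmaF4.hF4) r a

/-- the value of a product of root elements is the ordered product of Helper40 -/
theorem PU_prod_val (M : List ℕ) (c : ℕ → F) :
    (((M.map fun r => xGL chevF4 F r (c r)).prod : GL chevF4.Idx F) :
      Matrix chevF4.Idx chevF4.Idx F) = Cfsg.Agent.Helper40.UProd.pw chevF4 M c := by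
  induction M with
  | nil => simp [Cfsg.Agent.Helper40.UProd.pw_nil]
  | cons r M ih =>
    rw [List.map_cons, List.prod_cons, Units.val_mul, ih, PU_xGL_val,
      Cfsg.Agent.Helper40.UProd.pw_cons]

/-- factors with coefficient zero can be dropped -/
theorem PU_prod_filter (M : List ℕ) (c : ℕ → F) (p : ℕ → Prop) [DecidablePred p]
    (h : ∀ r ∈ M, ¬ p r → c r = 0) :
    (M.map fun r => xGL chevF4 F r (c r)).prod =
      ((M.filter fun r => decide (p r)).map fun r => xGL chevF4 F r (c r)).prod := by
  induction M with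
  | nil => simp
  | cons r M ih =>
    have ih' := ih (fun s hs => h s (List.mem_cons_of_mem _ hs))
    by_cases hr : p r
    · rw [List.filter_cons_of_pos (by simpa using hr), List.map_cons, List.map_cons,
        List.prod_cons, List.prod_cons, ih']
    · rw [List.filter_cons_of_neg (by simpa using hr), List.map_cons, List.prod_cons,
        h r List.mem_cons_self hr, xGL_zero, one_mul, ih']

/-- (PU1) -/
theorem ev_val_eq_pw (L : List ℕ) (hnd : L.Nodup) (t : ℕ → F)
    (hpos : ∀ s ∈ L, t s ≠ 0 → chevF4.IsPosRoot s)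
    (hcomm : ∀ r ∈ L, ∀ s ∈ L, Commute (xGL chevF4 F r (t r)) (xGL chevF4 F s (t s))) :
    ((ev L t : GL chevF4.Idx F) : Matrix chevF4.Idx chevF4.Idx F) =
      Cfsg.Agent.Helper40.UProd.pw chevF4 chevF4.posRoots (fun s => if s ∈ L then t s else 0) := by
  classical
  set c : ℕ → F := fun s => if s ∈ L then t s else 0 with hc
  have hcL : ∀ s ∈ L, c s = t s := fun s hs => by rw [hc]; exact if_pos hs
  have hndP : chevF4.posRoots.Nodup := by
    unfold ChevalleyDatum.posRoots
    exact List.Nodup.filter _ List.nodup_range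
  -- both sides as products with the coefficient function `c`
  have e1 : ev L t = (L.map fun r => xGL chevF4 F r (c r)).prod := by
    unfold ev
    congr 1
    apply List.map_congr_left
    intro r hr
    rw [hcL r hr]
  rw [← PU_prod_val, e1]
  congr 1
  -- drop the trivial factors
  rw [PU_prod_filter L c (fun r => c r ≠ 0) (fun r _ h => not_not.mp h),
    PU_prod_filter chevF4.posRoots c (fun r => c r ≠ 0) (fun r _ h => not_not.mp h)]
  -- the two filtered lists are permutations of each other
  have hperm : (L.filter fun r => decide (c r ≠ 0)).Perm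
      (chevF4.posRoots.filter fun r => decide (c r ≠ 0)) := by
    rw [List.perm_ext_iff_of_nodup (hnd.filter _) (hndP.filter _)]
    intro s
    rw [List.mem_filter, List.mem_filter, Cfsg.Agent.Helper40.UProd.mem_posRoots]
    simp only [decide_eq_true_eq]
    constructor
    · rintro ⟨hs, hcs⟩
      refine ⟨hpos s hs ?_, hcs⟩
      rwa [hcL s hs] at hcs
    · rintro ⟨_, hcs⟩
      refine ⟨?_, hcs⟩
      by_contra hs
      apply hcs
      rw [hc]
      exact if_neg hs
  apply List.Perm.prod_eq' (hperm.map _)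
  rw [List.pairwise_map]
  apply List.pairwise_of_forall_mem_list
  intro r hr s hs
  have hrL : r ∈ L := (List.mem_filter.mp hr).1
  have hsL : s ∈ L := (List.mem_filter.mp hs).1
  rw [hcL r hrL, hcL s hsL]
  exact hcomm r hrL s hsL

/-- the coefficient function of (PU1) vanishes off the positive roots -/
theorem PU_coeff_zero (L : List ℕ) (t : ℕ → F)
    (hpos : ∀ s ∈ L, t s ≠ 0 → chevF4.IsPosRoot s) :
    ∀ r, ¬ chevF4.IsPosRoot r → (fun s => if s ∈ L then t s else 0) r = 0 := by
  classical
  intro r hr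
  by_cases hrL : r ∈ L
  · simp only [if_pos hrL]
    by_contra h0
    exact hr (hpos r hrL h0)
  · simp only [if_neg hrL]

/-- (PU3) the general comparison: two such products agree, then a root with a non-zero coefficient in the
first list occurs in the second list -/
theorem ev_supp (L L' : List ℕ) (hnd : L.Nodup) (hnd' : L'.Nodup) (t t' : ℕ → F)
    (hpos : ∀ s ∈ L, t s ≠ 0 → chevF4.IsPosRoot s) (hpos' : ∀ s ∈ L', t' s ≠ 0 → chevF4.IsPosRoot s)
    (hcomm : ∀ r ∈ L, ∀ s ∈ L, Commute (xGL chevF4 F r (t r)) (xGL chevF4 F s (t s)))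
    (hcomm' : ∀ r ∈ L', ∀ s ∈ L', Commute (xGL chevF4 F r (t' r)) (xGL chevF4 F s (t' s)))
    (h : ev L t = ev L' t') : ∀ s ∈ L, t s ≠ 0 → s ∈ L' := by
  classical
  obtain ⟨φ, wit, hg, -⟩ :=
    Cfsg.Agent.Helper40.UData.exists_grade chevF4 Cfsg.Agent.Helper36.SigmaF4.hF4
  have h1 := ev_val_eq_pw L hnd t hpos hcomm
  have h2 := ev_val_eq_pw L' hnd' t' hpos' hcomm'
  rw [h] at h1
  have e := Cfsg.Agent.Helper40.UProd.pw_unique (F := F) Cfsg.Agent.Helper36.SigmaF4.hF4 hg _ _
    (PU_coeff_zero L t hpos) (PU_coeff_zero L' t' hpos') (h1.symm.trans h2)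
  intro s hs hts
  by_contra hs'
  have := congrFun e s
  simp only [if_pos hs, if_neg hs'] at this
  exact hts this

/-- (PU2) -/
theorem ev_inj (L : List ℕ) (hnd : L.Nodup) (t t' : ℕ → F)
    (hpos : ∀ s ∈ L, chevF4.IsPosRoot s)
    (hcomm : ∀ r ∈ L, ∀ s ∈ L, ∀ a b : F, Commute (xGL chevF4 F r a) (xGL chevF4 F s b))
    (h : ev L t = ev L t') : ∀ s ∈ L, t s = t' s := by
  classical
  obtain ⟨φ, wit, hg, -⟩ :=
    Cfsg.Agent.Helper40.UData.exists_grade chevF4 Cfsg.Agent.Helper36.SigmaF4.hF4
  have h1 := ev_val_eq_pw L hnd t (fun s hs _ => hpos s hs) (fun r hr s hs => hcomm r hr s hs _ _)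
  have h2 := ev_val_eq_pw L hnd t' (fun s hs _ => hpos s hs) (fun r hr s hs => hcomm r hr s hs _ _)
  rw [h] at h1
  have e := Cfsg.Agent.Helper40.UProd.pw_unique (F := F) Cfsg.Agent.Helper36.SigmaF4.hF4 hg _ _
    (PU_coeff_zero L t (fun s hs _ => hpos s hs)) (PU_coeff_zero L t' (fun s hs _ => hpos s hs))
    (h1.symm.trans h2)
  intro s hs
  have := congrFun e s
  simp only [if_pos hs] at this
  exact this

end Cfsg.Agent.Helper36.F4Mix
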