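import Cfsg.Agent.Helper36.F4Mix.P_PU
import Cfsg.Agent.Helper36.LeviBruhat

/-!
Helper36, S2179, piece (ST): transport of the support under a representative of a Weyl group element.
If `n_w (∏_{r ∈ A} x_r(c_r)) n_w⁻¹ = ∏_{r ∈ A} x_r(d_r)` for a list `A` of positive roots with pairwise
commuting root subgroups, then `w r ∈ A` for all `r ∈ A` with `c_r ≠ 0`.
-/

set_option autoImplicit false

namespace Cfsg.Agent.Helper36.F4Mix

open Cfsg Cfsg.Lie Cfsg.Agent.Helper18

variable {F : Type*} [Field F]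

local notation "hF4" => Cfsg.Agent.Helper36.SigmaF4.hF4

theorem xGL_add (r : ℕ) (hr : r < 48) (a b : F) :
    xGL chevF4 F r (a + b) = xGL chevF4 F r a * xGL chevF4 F r b :=
  (Cfsg.Agent.Helper19.Poinc.xGL_mul chevF4 hF4 r hr a b).symm

/-- the product along a list, the roots moved by `f` -/
noncomputable def evm (A : List ℕ) (f : ℕ → ℕ) (c : ℕ → F) : GL chevF4.Idx F :=
  (A.map fun r => xGL chevF4 F (f r) (c r)).prod

theorem evm_cons (r : ℕ) (A : List ℕ) (f : ℕ → ℕ) (c : ℕ → F) :
    evm (r :: A) f c = xGL chevF4 F (f r) (c r) * evm A f c := by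
  simp [evm]

theorem ev_one (A : List ℕ) : ev A (fun _ => (0 : F)) = 1 := by
  induction A with
  | nil => rfl
  | cons r A ih => rw [ev_cons, ih, xGL_zero, mul_one]

/-- `ev` is additive in the coefficients -/
theorem ev_mul (A : List ℕ) (hlt : ∀ r ∈ A, r < 48)
    (hcomm : ∀ r ∈ A, ∀ s ∈ A, ∀ a b : F, Commute (xGL chevF4 F r a) (xGL chevF4 F s b))
    (c c' : ℕ → F) : ev A (fun r => c r + c' r) = ev A c * ev A c' := by
  induction A with
  | nil => simp [ev_nil]
  | cons r A ih =>
    have hA : ∀ s ∈ A, s < 48 := fun s hs => hlt s (List.mem_cons_of_mem _ hs)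
    have hc : ∀ r' ∈ A, ∀ s ∈ A, ∀ a b : F, Commute (xGL chevF4 F r' a) (xGL chevF4 F s b) :=
      fun r' hr' s hs => hcomm r' (List.mem_cons_of_mem _ hr') s (List.mem_cons_of_mem _ hs)
    rw [ev_cons, ev_cons, ev_cons, ih hA hc, xGL_add r (hlt r List.mem_cons_self)]
    have h1 : Commute (xGL chevF4 F r (c' r)) (ev A c) := by
      unfold ev
      apply Commute.list_prod_right
      intro y hy
      obtain ⟨s, hs, rfl⟩ := List.mem_map.mp hy
      exact hcomm r List.mem_cons_self s (List.mem_cons_of_mem _ hs) _ _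
    calc xGL chevF4 F r (c r) * xGL chevF4 F r (c' r) * (ev A c * ev A c')
        = xGL chevF4 F r (c r) * ((xGL chevF4 F r (c' r) * ev A c) * ev A c') := by group
      _ = xGL chevF4 F r (c r) * ((ev A c * xGL chevF4 F r (c' r)) * ev A c') := by rw [h1.eq]
      _ = _ := by group

/-- conjugation of `ev A c` by a representative of a word -/
theorem conj_ev (word : List ℕ) (hw : ∀ i ∈ word, i < 4) :
    ∃ η : ℕ → F, (∀ r, η r ≠ 0) ∧ ∀ (A : List ℕ), (∀ r ∈ A, r < 48) → ∀ c : ℕ → F,
      nWordsGL chevF4 F word * ev A c * (nWordsGL chevF4 F word)⁻¹ =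
        evm A (rho chevF4 word) (fun r => η r * c r) := by
  classical
  have hw' : ∀ i ∈ word, i < chevF4.rank := hw
  have key : ∀ r : ℕ, ∃ e : F, e ≠ 0 ∧ (r < 48 → ∀ t : F,
      nWordsGL chevF4 F word * xGL chevF4 F r t =
        xGL chevF4 F (rho chevF4 word r) (e * t) * nWordsGL chevF4 F word) := by
    intro r
    by_cases hr : r < 48
    · obtain ⟨-, η, hη, h⟩ := nWordsGL_conj_xGL (F := F) chevF4 hF4 (nConjHyp chevF4 hF4)
        (reflectRoot_lt chevF4 hF4) word hw' r hr
      refine ⟨(η : F), ?_, fun _ => h⟩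
      rcases hη with rfl | rfl
      · simp
      · simp
    · exact ⟨1, one_ne_zero, fun h => absurd h hr⟩
  choose η hη0 hη using key
  refine ⟨η, hη0, ?_⟩
  intro A hA c
  induction A with
  | nil => simp [ev_nil, evm]
  | cons r A ih =>
    have hA' : ∀ s ∈ A, s < 48 := fun s hs => hA s (List.mem_cons_of_mem _ hs)
    rw [ev_cons, evm_cons, ← ih hA']
    have := hη r (hA r List.mem_cons_self) (c r)
    calc nWordsGL chevF4 F word * (xGL chevF4 F r (c r) * ev A c) * (nWordsGL chevF4 F word)⁻¹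
        = (nWordsGL chevF4 F word * xGL chevF4 F r (c r)) * ev A c * (nWordsGL chevF4 F word)⁻¹ := by
          group
      _ = _ := by rw [this]; group

theorem rho_inj (word : List ℕ) (hw : ∀ i ∈ word, i < 4) (r s : ℕ) (hr : r < 48) (hs : s < 48)
    (h : rho chevF4 word r = rho chevF4 word s) : r = s := by
  have hw' : ∀ i ∈ word.reverse, i < chevF4.rank := fun i hi => hw i (List.mem_reverse.mp hi)
  have e1 := rho_reverse_cancel chevF4 hF4 word.reverse hw' r hr
  have e2 := rho_reverse_cancel chevF4 hF4 word.reverse hw' s hs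
  rw [List.reverse_reverse] at e1 e2
  rw [← e1, ← e2, h]

/-- `evm` as an `ev` along the mapped list -/
theorem evm_eq_ev (word : List ℕ) (hw : ∀ i ∈ word, i < 4) (A : List ℕ) (hA : ∀ r ∈ A, r < 48)
    (c : ℕ → F) :
    evm A (rho chevF4 word) c =
      ev (A.map (rho chevF4 word)) (fun s => c (rho chevF4 word.reverse s)) := by
  have hw' : ∀ i ∈ word.reverse, i < chevF4.rank := fun i hi => hw i (List.mem_reverse.mp hi)
  unfold evm ev
  rw [List.map_map]
  congr 1
  apply List.map_congr_left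
  intro r hr
  have e1 := rho_reverse_cancel chevF4 hF4 word.reverse hw' r (hA r hr)
  rw [List.reverse_reverse] at e1
  simp only [Function.comp]
  rw [e1]

theorem lt_of_pos {r : ℕ} (h : chevF4.IsPosRoot r) : r < 48 := h.1

/-- (ST1) the roots in the support stay positive -/
theorem supp_pos (A : List ℕ) (hnd : A.Nodup) (hpos : ∀ r ∈ A, chevF4.IsPosRoot r)
    (hcomm : ∀ r ∈ A, ∀ s ∈ A, ∀ a b : F, Commute (xGL chevF4 F r a) (xGL chevF4 F s b))
    (word : List ℕ) (hw : ∀ i ∈ word, i < 4) (c d : ℕ → F)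
    (heq : nWordsGL chevF4 F word * ev A c * (nWordsGL chevF4 F word)⁻¹ = ev A d) :
    ∀ r ∈ A, c r ≠ 0 → chevF4.IsPosRoot (rho chevF4 word r) := by
  classical
  have hlt : ∀ r ∈ A, r < 48 := fun r hr => lt_of_pos (hpos r hr)
  have hw' : ∀ i ∈ word, i < chevF4.rank := hw
  obtain ⟨η, hη0, hη⟩ := conj_ev (F := F) word hw
  set n := nWordsGL chevF4 F word with hn
  set cp : ℕ → F := fun r => if chevF4.IsPosRoot (rho chevF4 word r) then c r else 0 with hcp
  set cm : ℕ → F := fun r => if chevF4.IsPosRoot (rho chevF4 word r) then 0 else c r with hcm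
  have hsplit : ev A c = ev A cp * ev A cm := by
    rw [← ev_mul A hlt hcomm]
    congr 1
    funext r
    simp only [hcp, hcm]
    split_ifs <;> simp
  -- the positive part goes to `U`
  have h1 : n * ev A cp * n⁻¹ ∈ chevF4.posUnipotent F := by
    rw [hη A hlt]
    unfold evm
    apply Subgroup.list_prod_mem
    intro y hy
    obtain ⟨r, hr, rfl⟩ := List.mem_map.mp hy
    simp only [hcp]
    split_ifs with hp
    · exact xGL_mem_posUnipotent chevF4 hF4 _
        ((Cfsg.Agent.Helper36.SigmaF4.isPosRoot_iff _).mp hp) _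
    · rw [mul_zero, xGL_zero]; exact Subgroup.one_mem _
  -- the other part goes to `V`
  have h2 : n * ev A cm * n⁻¹ ∈ chevF4.negUnipotent F := by
    rw [hη A hlt]
    unfold evm
    apply Subgroup.list_prod_mem
    intro y hy
    obtain ⟨r, hr, rfl⟩ := List.mem_map.mp hy
    simp only [hcm]
    split_ifs with hp
    · rw [mul_zero, xGL_zero]; exact Subgroup.one_mem _
    · have hlt' : rho chevF4 word r < 48 := rho_lt chevF4 hF4 word hw' r (hlt r hr)
      have hneg : chevF4.IsNegRoot (rho chevF4 word r) := by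
        rw [Cfsg.Agent.Helper36.SigmaF4.isNegRoot_iff]
        by_contra hge
        exact hp ((Cfsg.Agent.Helper36.SigmaF4.isPosRoot_iff _).mpr ⟨by omega, hlt'⟩)
      apply Subgroup.subset_closure
      exact ⟨_, _, hneg, xGL_val chevF4 _ (triOK_of_mem chevF4 hF4) _ _⟩
  have hdU : ev A d ∈ chevF4.posUnipotent F := by
    unfold ev
    apply Subgroup.list_prod_mem
    intro y hy
    obtain ⟨r, hr, rfl⟩ := List.mem_map.mp hy
    exact xGL_mem_posUnipotent chevF4 hF4 _
      ((Cfsg.Agent.Helper36.SigmaF4.isPosRoot_iff _).mp (hpos r hr)) _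
  have h3 : n * ev A cm * n⁻¹ ∈ chevF4.posUnipotent F := by
    have e : n * ev A cm * n⁻¹ = (n * ev A cp * n⁻¹)⁻¹ * ev A d := by
      rw [← heq, hsplit]; group
    rw [e]
    exact Subgroup.mul_mem _ (Subgroup.inv_mem _ h1) hdU
  have h4 : n * ev A cm * n⁻¹ = 1 := by
    have : n * ev A cm * n⁻¹ ∈ chevF4.posUnipotent F ⊓ chevF4.negUnipotent F :=
      Subgroup.mem_inf.mpr ⟨h3, h2⟩
    rw [Cfsg.Agent.Helper36.LeviBruhat.pos_inf_neg chevF4 hF4, Subgroup.mem_bot] at this
    exact this
  have h5 : ev A cm = ev A (fun _ => (0 : F)) := by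
    rw [ev_one]
    have : ev A cm = n⁻¹ * (n * ev A cm * n⁻¹) * n := by group
    rw [this, h4]; group
  have h6 := ev_inj A hnd cm (fun _ => 0) hpos hcomm h5
  intro r hr hcr
  by_contra hp
  have := h6 r hr
  simp only [hcm, if_neg hp] at this
  exact hcr this

/-- (ST2) the roots in the support are mapped into `A` -/
theorem supp_transport (A : List ℕ) (hnd : A.Nodup) (hpos : ∀ r ∈ A, chevF4.IsPosRoot r)
    (hcomm : ∀ r ∈ A, ∀ s ∈ A, ∀ a b : F, Commute (xGL chevF4 F r a) (xGL chevF4 F s b))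
    (word : List ℕ) (hw : ∀ i ∈ word, i < 4) (c d : ℕ → F)
    (heq : nWordsGL chevF4 F word * ev A c * (nWordsGL chevF4 F word)⁻¹ = ev A d) :
    ∀ r ∈ A, c r ≠ 0 → rho chevF4 word r ∈ A := by
  classical
  have hlt : ∀ r ∈ A, r < 48 := fun r hr => lt_of_pos (hpos r hr)
  have hw' : ∀ i ∈ word, i < chevF4.rank := hw
  have hwr : ∀ i ∈ word.reverse, i < chevF4.rank := fun i hi => hw i (List.mem_reverse.mp hi)
  have hP := supp_pos A hnd hpos hcomm word hw c d heq
  obtain ⟨η, hη0, hη⟩ := conj_ev (F := F) word hw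
  set n := nWordsGL chevF4 F word with hn
  have e1 := hη A hlt c
  rw [heq, evm_eq_ev word hw A hlt] at e1
  set β := rho chevF4 word with hβ
  set t : ℕ → F := fun s => η (rho chevF4 word.reverse s) * c (rho chevF4 word.reverse s) with ht
  have hback : ∀ r ∈ A, rho chevF4 word.reverse (β r) = r := by
    intro r hr
    have := rho_reverse_cancel chevF4 hF4 word.reverse hwr r (hlt r hr)
    rw [List.reverse_reverse] at this
    exact this
  have hndβ : (A.map β).Nodup := by
    apply List.Nodup.map_on _ hnd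
    intro r hr s hs h
    exact rho_inj word hw r s (hlt r hr) (hlt s hs) h
  -- the conjugates commute
  have hcommβ : ∀ r ∈ A.map β, ∀ s ∈ A.map β,
      Commute (xGL chevF4 F r (t r)) (xGL chevF4 F s (t s)) := by
    intro r' hr' s' hs'
    obtain ⟨r, hr, rfl⟩ := List.mem_map.mp hr'
    obtain ⟨s, hs, rfl⟩ := List.mem_map.mp hs'
    have hr1 := hη [r] (by intro x hx; rw [List.mem_singleton] at hx; rw [hx]; exact hlt r hr) c
    have hs1 := hη [s] (by intro x hx; rw [List.mem_singleton] at hx; rw [hx]; exact hlt s hs) c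
    simp only [ev, evm, List.map_cons, List.map_nil, List.prod_cons, List.prod_nil, mul_one] at hr1 hs1
    simp only [ht]
    rw [hback r hr, hback s hs, ← hr1, ← hs1]
    have := hcomm r hr s hs (c r) (c s)
    show _ * _ = _ * _
    calc n * xGL chevF4 F r (c r) * n⁻¹ * (n * xGL chevF4 F s (c s) * n⁻¹)
        = n * (xGL chevF4 F r (c r) * xGL chevF4 F s (c s)) * n⁻¹ := by group
      _ = n * (xGL chevF4 F s (c s) * xGL chevF4 F r (c r)) * n⁻¹ := by rw [this.eq]
      _ = _ := by group
  have hposβ : ∀ s ∈ A.map β, t s ≠ 0 → chevF4.IsPosRoot s := by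
    intro s' hs' hts
    obtain ⟨r, hr, rfl⟩ := List.mem_map.mp hs'
    simp only [ht] at hts
    rw [hback r hr] at hts
    exact hP r hr (fun h0 => hts (by rw [h0, mul_zero]))
  have hsupp := ev_supp (A.map β) A hndβ hnd t d hposβ (fun s hs _ => hpos s hs) hcommβ
    (fun r hr s hs => hcomm r hr s hs _ _) e1.symm
  intro r hr hcr
  apply hsupp (β r) (List.mem_map_of_mem hr)
  simp only [ht]
  rw [hback r hr]
  exact mul_ne_zero (hη0 r) hcr

end Cfsg.Agent.Helper36.F4Mix
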